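import Cfsg.Agent.H113.Cusp.Rel

/-!
# Families of seven characters agreeing on a parabolic subgroup are cuspidal, Witt index two (helper113)
-/

set_option autoImplicit false
set_option linter.unusedSectionVars false

open scoped ComplexConjugate
open Cfsg

namespace Cfsg.Agent.H113.Cusp.Asm

open Module Cfsg.Agent.H53.HC Cfsg.Agent.H477.HC Cfsg.Agent.H477.HC.CForm Cfsg.Agent.H113.Two.HcOne
  Cfsg.Agent.H113.Cusp.Tool Cfsg.Agent.H113.Cusp.Flag Cfsg.Agent.H113.Cusp.Rel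

universe u v w

variable {K : Type u} [Field K] {V : Type v} [AddCommGroup V] [Module K V] {F : CForm K V} [FiniteDimensional K V]

/-- the image of a subspace -/
abbrev im (g : F.iso) (W : Submodule K V) : Submodule K V := W.map (F.iso.subtype g : V →ₗ[K] V)

theorem im_mul (g h : F.iso) (W : Submodule K V) : im (g * h) W = im g (im h W) := map_mul_apply F.iso.subtype g h W

theorem im_one (W : Submodule K V) : im (1 : F.iso) W = W := Submodule.map_id _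

theorem im_inv {g : F.iso} {W W' : Submodule K V} (h : im g W = W') : im g⁻¹ W' = W := by
  rw [← h, ← im_mul, inv_mul_cancel, im_one]

theorem mem_St' {g : F.iso} {W : Submodule K V} : g ∈ St F W ↔ im g W = W := Iff.rfl

/-- the same position: the same double coset -/
theorem dcoset {W : Submodule K V} {x y g : F.iso} (hg : g ∈ St F W) (h : im g (im x W) = im y W) :
    ∃ a ∈ St F W, ∃ b ∈ St F W, x = a * y * b := by
  refine ⟨g⁻¹, inv_mem hg, y⁻¹ * g * x, ?_, by group⟩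
  rw [mem_St', im_mul, im_mul, h]
  exact im_inv rfl

theorem opp_im {A B : Submodule K V} (g : F.iso) (h : A ⊓ F.perp B = ⊥) : im g A ⊓ F.perp (im g B) = ⊥ := by
  rw [Submodule.eq_bot_iff] at h ⊢
  rintro _ ⟨⟨a, ha, rfl⟩, h2⟩
  have h3 : a = 0 := h a ⟨ha, fun b hb => by
    rw [← F.iso_B g]
    exact h2 _ ⟨b, hb, rfl⟩⟩
  rw [h3, map_zero]

/-- **the opposite case** -/
theorem mle_opp [Finite V] [Finite K] {k : ℕ} {W : Submodule K V} (hW : W ∈ F.Om k) {y : F.iso}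
    (hy : W ⊓ F.perp (im y W) = ⊥) {ψ : St F W → ℂ} (hψ : IsIrrCharacter _ ψ)
    (hψV : ∀ v : St F W, (v : F.iso) ∈ rad F W → ψ v = ψ 1) : MLe (St F W) ψ y 1 := by
  have := finite_iso F
  have key : ∀ y : F.iso, W ⊓ F.perp (im y W) = ⊥ → ∀ g ∈ St F W, ∃ l ∈ St F W, y⁻¹ * l * y ∈ St F W ∧
      l⁻¹ * g ∈ rad F W := by
    intro y hy g hg
    have h1 := opp_im g⁻¹ hy
    rw [show im g⁻¹ W = W from mem_St'.1 (inv_mem hg)] at h1
    obtain ⟨u, hu, huW⟩ := rad_trans hW (F.Om_map y W hW) (F.Om_map g⁻¹ _ (F.Om_map y W hW)) hy h1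
    refine ⟨g * u, mul_mem hg (rad_le hu), ?_, ?_⟩
    · rw [mem_St', im_mul, im_mul, im_mul]
      have h2 : im u (im y W) = im g⁻¹ (im y W) := huW
      rw [h2, ← im_mul g, mul_inv_cancel, im_one]
      exact im_inv rfl
    · rw [mul_inv_rev, inv_mul_cancel_right]
      exact inv_mem hu
  refine mLe_one (V := rad F W) (fun g hg v hv => rad_conj hW.1 hg hv) hψ hψV (key y hy) ?_
  have h2 : W ⊓ F.perp (im y⁻¹ W) = ⊥ := by
    have h3 := opp_symm (F := F) hW.2 (F.Om_map y W hW).2 hy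
    have h4 := opp_im y⁻¹ h3
    rwa [im_inv rfl] at h4
  have := key y⁻¹ h2
  simpa only [inv_inv] using this

/-- the abstract assembly -/
theorem assemble [Finite V] [Finite K] {k : ℕ} {W : Submodule K V} (hW : W ∈ F.Om k) (R : Submodule K V → Prop)
    (hRinv : ∀ y : F.iso, R (im y W) → R (im y⁻¹ W))
    (hRtrans : ∀ x y : F.iso, R (im x W) → R (im y W) → ∃ g ∈ St F W, im g (im x W) = im y W)
    (hcase : ∀ x : F.iso, x ∉ St F W → R (im x W) ∨ W ⊓ F.perp (im x W) = ⊥)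
    (hd : ∀ y : F.iso, R (im y W) → ∀ ψ : St F W → ℂ, IsIrrCharacter _ ψ →
      (∀ v : St F W, (v : F.iso) ∈ rad F W → ψ v = ψ 1) → DLe ψ (xs (St F W) (rad F W) y) 2)
    {ι : Type*} [Fintype ι] {χ : ι → F.iso → ℂ} (hχ : ∀ i, IsIrrCharacter F.iso (χ i)) (hinj : Function.Injective χ)
    (hres : ∀ i j, ∀ g ∈ St F W, χ i g = χ j g) (hcard : 7 ≤ Fintype.card ι) [Fintype (rad F W)] (i : ι) :
    ∑ v : rad F W, χ i v = 0 := by
  classical
  have := finite_iso F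
  have := Fintype.ofFinite F.iso
  obtain ⟨W₁, hW₁, hopp⟩ := F.exists_opp hW
  obtain ⟨y₁, hy₁⟩ := F.trans_Om hW hW₁
  have hy₁' : W ⊓ F.perp (im y₁ W) = ⊥ := by
    have : im y₁ W = W₁ := hy₁
    rwa [this]
  have hopp' : ∀ x : F.iso, W ⊓ F.perp (im x W) = ⊥ → ∃ a ∈ St F W, ∃ b ∈ St F W, x = a * y₁ * b := by
    intro x hx
    obtain ⟨u, hu, huW⟩ := rad_trans hW (F.Om_map x W hW) (F.Om_map y₁ W hW) hx hy₁'
    exact dcoset (rad_le hu) huW
  have hVP : rad F W ≤ St F W := rad_le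
  have hV : ∀ g ∈ St F W, ∀ v ∈ rad F W, g * v * g⁻¹ ∈ rad F W := fun g hg v hv => rad_conj hW.1 hg hv
  by_cases hR : ∃ y : F.iso, R (im y W)
  · obtain ⟨y₀, hy₀⟩ := hR
    refine sum_eq_zero hVP hV hχ hinj hres (fun b : Bool => if b then y₀ else y₁) (fun b : Bool => if b then 4 else 1)
      (fun x hx => ?_) (fun ψ hψ hψV b => ?_) ?_ i
    · rcases hcase x hx with h1 | h1
      · obtain ⟨g, hg, hgx⟩ := hRtrans x y₀ h1 hy₀
        exact ⟨true, dcoset hg hgx⟩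
      · exact ⟨false, hopp' x h1⟩
    · cases b
      · exact mle_opp hW hy₁' hψ hψV
      · exact mLe_mul hVP hV hψ hψV (hd y₀ hy₀ ψ hψ hψV) (hd y₀⁻¹ (hRinv y₀ hy₀) ψ hψ hψV)
    · rw [Fintype.sum_bool]
      simp only [if_true, Bool.false_eq_true, if_false]
      omega
  · push Not at hR
    refine sum_eq_zero hVP hV hχ hinj hres (fun _ : Unit => y₁) (fun _ : Unit => 1)
      (fun x hx => ?_) (fun ψ hψ hψV b => ?_) ?_ i
    · rcases hcase x hx with h1 | h1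
      · exact absurd h1 (hR x)
      · exact ⟨(), hopp' x h1⟩
    · exact mle_opp hW hy₁' hψ hψV
    · simp only [Finset.univ_unique, Finset.sum_const, Finset.card_singleton]
      simp only [smul_eq_mul]
      omega

theorem im_line (g : F.iso) (e : V) : im g (K ∙ e) = K ∙ ((g : V ≃ₗ[K] V) e) := by
  unfold im
  rw [Submodule.map_span, Set.image_singleton]
  rfl

/-- **points** -/
theorem cusp_point [Finite V] [Finite K] (hR : Rk2 F) {W : Submodule K V} (hW : W ∈ F.Om 1)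
    {ι : Type*} [Fintype ι] {χ : ι → F.iso → ℂ} (hχ : ∀ i, IsIrrCharacter F.iso (χ i)) (hinj : Function.Injective χ)
    (hres : ∀ i j, ∀ g ∈ St F W, χ i g = χ j g) (hcard : 7 ≤ Fintype.card ι) [Fintype (rad F W)] (i : ι) :
    ∑ v : rad F W, χ i v = 0 := by
  obtain ⟨e, he0, he, hWe⟩ := F.exists_pt ⟨W, hW⟩
  have hWe : W = K ∙ e := congrArg Subtype.val hWe
  subst hWe
  have hadj : ∀ x : F.iso, x ∉ St F (K ∙ e) → F.B e ((x : V ≃ₗ[K] V) e) = 0 → Adj F e ((x : V ≃ₗ[K] V) e) :=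
    fun x hx h0 => ⟨he, F.sing_map x he, h0, he0, fun c hc => hx (St_line.2 ⟨c, hc⟩)⟩
  have hline : ∀ {a b : V}, K ∙ a = K ∙ b → ∃ c : K, a = c • b := by
    intro a b hab
    have h1 : a ∈ K ∙ b := by rw [← hab]; exact Submodule.mem_span_singleton_self a
    obtain ⟨c, hc⟩ := Submodule.mem_span_singleton.1 h1
    exact ⟨c, hc.symm⟩
  refine assemble hW (fun W' => ∃ e', W' = K ∙ e' ∧ Adj F e e') ?_ ?_ ?_ ?_ hχ hinj hres hcard i
  · rintro y ⟨e', he', ha⟩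
    refine ⟨_, im_line y⁻¹ e, he, F.sing_map _ he, ?_, he0, fun c hc => ?_⟩
    · rw [im_line] at he'
      obtain ⟨c, hc⟩ := hline he'
      rw [← F.iso_B y, ap_inv, hc, F.B_smul_left, F.B_eq_zero ha.hp, mul_zero]
    · have h1 : e = c • ((y : V ≃ₗ[K] V) e) := by
        rw [← map_smul, ← hc, ap_inv]
      rw [im_line] at he'
      obtain ⟨d, hd⟩ := hline he'
      rw [hd, smul_smul] at h1
      exact ha.hne' _ h1
  · rintro x y ⟨e₁, h1, ha₁⟩ ⟨e₂, h2, ha₂⟩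
    obtain ⟨g, hg1, hg2⟩ := F.trans_rel (x := F.pt e he0 he) (y := F.pt e₁ ha₁.he0' ha₁.he') (x' := F.pt e he0 he)
      (y' := F.pt e₂ ha₂.he0' ha₂.he') ⟨fun h => by
        obtain ⟨c, -, hc⟩ := F.pt_eq_iff.1 h
        exact ha₁.hne' c hc, F.perp_pt.2 ha₁.hp⟩ ⟨fun h => by
        obtain ⟨c, -, hc⟩ := F.pt_eq_iff.1 h
        exact ha₂.hne' c hc, F.perp_pt.2 ha₂.hp⟩
    refine ⟨g, congrArg Subtype.val hg1, ?_⟩
    rw [h1, h2]
    exact congrArg Subtype.val hg2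
  · intro x hx
    by_cases h0 : F.B e ((x : V ≃ₗ[K] V) e) = 0
    · exact Or.inl ⟨_, im_line x e, hadj x hx h0⟩
    · right
      rw [Submodule.eq_bot_iff]
      rintro w ⟨hw, hw'⟩
      obtain ⟨t, rfl⟩ := Submodule.mem_span_singleton.1 hw
      rw [im_line] at hw'
      have h1 := mem_perp_line.1 hw'
      rw [F.B_smul_left] at h1
      rw [(mul_eq_zero.1 h1).resolve_right h0, zero_smul]
  · rintro y ⟨e', he', ha⟩ ψ hψ hψV
    exact dle_point hR ha he' hψ hψV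

/-- two lines meeting in a point -/
theorem exists_adj2 (hR : Rk2 F) {L L' : Submodule K V} (hL : L ∈ F.Om 2) (hL' : L' ∈ F.Om 2) (hne : L' ≠ L) {e f : V}
    (he : e ∈ L) (he' : e ∈ L') (he0 : e ≠ 0) (hf : f ∈ L) (hfe : ∀ c : K, f ≠ c • e) :
    L = (K ∙ e) ⊔ (K ∙ f) ∧ ∃ f', Adj2 F e f f' ∧ L' = (K ∙ e) ⊔ (K ∙ f') := by
  have hspan : ∀ {M : Submodule K V} {a b : V}, M ∈ F.Om 2 → a ∈ M → b ∈ M → a ≠ 0 → (∀ c : K, b ≠ c • a) →
      M = (K ∙ a) ⊔ (K ∙ b) := by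
    intro M a b hM ha hb ha0 hab
    symm
    apply Submodule.eq_of_le_of_finrank_eq
    · exact sup_le ((Submodule.span_singleton_le_iff_mem a M).2 ha) ((Submodule.span_singleton_le_iff_mem b M).2 hb)
    · rw [hM.2]
      exact (sp_two (F := F) (hM.1.sing ha) (hM.1.sing hb) (hM.1.2 a ha b hb) ha0 hab).2
  have hA : Adj F e f := ⟨hL.1.sing he, hL.1.sing hf, hL.1.2 e he f hf, he0, hfe⟩
  obtain ⟨g, hg, hge⟩ := exists_second hL'.2 e
  have hLe := hspan hL he hf he0 hfe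
  refine ⟨hLe, ?_⟩
  have h0 : F.B f g ≠ 0 := by
    intro h0
    apply hne
    have h1 := no3 hR hA.he hA.he' (hL'.1.sing hg) hA.hp he0 hfe (hL'.1.2 e he' g hg) h0
    rw [← hLe] at h1
    rw [hspan hL' he' hg he0 hge]
    exact (hspan hL he h1 he0 hge).symm
  have hσ : F.σ (F.B f g)⁻¹ ≠ 0 := by
    rw [Ne, map_eq_zero]
    exact inv_ne_zero h0
  have hg' : F.σ (F.B f g)⁻¹ • g ∈ L' := L'.smul_mem _ hg
  have hge' : ∀ c : K, F.σ (F.B f g)⁻¹ • g ≠ c • e := by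
    intro c hc
    apply hge ((F.σ (F.B f g)⁻¹)⁻¹ * c)
    rw [mul_smul, ← hc, smul_smul, inv_mul_cancel₀ hσ, one_smul]
  refine ⟨F.σ (F.B f g)⁻¹ • g, ⟨hA, ⟨hA.he, hL'.1.sing hg', hL'.1.2 e he' _ hg', he0, hge'⟩, ?_⟩,
    hspan hL' he' hg' he0 hge'⟩
  rw [F.B_smul_right, F.σσ, inv_mul_cancel₀ h0]

/-- **lines** -/
theorem cusp_line [Finite V] [Finite K] (hR : Rk2 F) {L : Submodule K V} (hL : L ∈ F.Om 2)
    {ι : Type*} [Fintype ι] {χ : ι → F.iso → ℂ} (hχ : ∀ i, IsIrrCharacter F.iso (χ i)) (hinj : Function.Injective χ)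
    (hres : ∀ i j, ∀ g ∈ St F L, χ i g = χ j g) (hcard : 7 ≤ Fintype.card ι) [Fintype (rad F L)] (i : ι) :
    ∑ v : rad F L, χ i v = 0 := by
  have hex : ∀ y : F.iso, (im y L ≠ L ∧ L ⊓ im y L ≠ ⊥) → ∃ e f f', Adj2 F e f f' ∧ L = (K ∙ e) ⊔ (K ∙ f) ∧
      im y L = (K ∙ e) ⊔ (K ∙ f') := by
    rintro y ⟨h1, h2⟩
    obtain ⟨e, he, he0⟩ := Submodule.exists_mem_ne_zero_of_ne_bot h2
    obtain ⟨f, hf, hfe⟩ := exists_second hL.2 e
    obtain ⟨h3, f', h4, h5⟩ := exists_adj2 hR hL (F.Om_map y L hL) h1 he.1 he.2 he0 hf hfe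
    exact ⟨e, f, f', h4, h3, h5⟩
  refine assemble hL (fun L' => L' ≠ L ∧ L ⊓ L' ≠ ⊥) ?_ ?_ ?_ ?_ hχ hinj hres hcard i
  · rintro y ⟨h1, h2⟩
    refine ⟨fun h => h1 ?_, fun h => h2 ?_⟩
    · have := im_inv h
      rwa [inv_inv] at this
    · have h3 := congrArg (fun M => im y M) h
      simp only [im] at h3
      rw [Submodule.map_inf _ (F.iso.subtype y).injective, Submodule.map_bot] at h3
      have h4 : im y (im y⁻¹ L) = L := by rw [← im_mul, mul_inv_cancel, im_one]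
      rw [show Submodule.map (F.iso.subtype y : V →ₗ[K] V) (Submodule.map (F.iso.subtype y⁻¹ : V →ₗ[K] V) L) = L from h4,
        inf_comm] at h3
      exact h3
  · intro x y hx hy
    obtain ⟨e₁, f₁, g₁, h1, hL1, hx1⟩ := hex x hx
    obtain ⟨e₂, f₂, g₂, h2, hL2, hy2⟩ := hex y hy
    -- move `e₁` to `e₂`
    obtain ⟨w, hw1, hw2⟩ := F.trans_rel (x := F.pt e₁ h1.h.he0 h1.h.he) (y := F.pt f₁ h1.h.he0' h1.h.he')
      (x' := F.pt e₂ h2.h.he0 h2.h.he) (y' := F.pt f₂ h2.h.he0' h2.h.he') ⟨fun h => by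
        obtain ⟨c, -, hc⟩ := F.pt_eq_iff.1 h
        exact h1.h.hne' c hc, F.perp_pt.2 h1.h.hp⟩ ⟨fun h => by
        obtain ⟨c, -, hc⟩ := F.pt_eq_iff.1 h
        exact h2.h.hne' c hc, F.perp_pt.2 h2.h.hp⟩
    have hw1' : im w (K ∙ e₁) = K ∙ e₂ := congrArg Subtype.val hw1
    have hw2' : im w (K ∙ f₁) = K ∙ f₂ := congrArg Subtype.val hw2
    have hwL : im w L = L := by
      conv_lhs => rw [hL1]
      rw [hL2]
      unfold im at hw1' hw2' ⊢
      rw [Submodule.map_sup, hw1', hw2']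
    have hwx : w * x ∉ St F L := by
      intro h
      apply hx.1
      rw [mem_St', im_mul] at h
      have h3 := im_inv h
      rw [im_inv hwL] at h3
      exact h3.symm
    have he2L : e₂ ∈ L := by rw [hL2]; exact Submodule.mem_sup_left (Submodule.mem_span_singleton_self _)
    have hf2L : f₂ ∈ L := by rw [hL2]; exact Submodule.mem_sup_right (Submodule.mem_span_singleton_self _)
    have he2 : e₂ ∈ im (w * x) L := by
      have h3 : K ∙ e₂ ≤ im (w * x) L := by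
        rw [im_mul, hx1, ← hw1']
        exact Submodule.map_mono le_sup_left
      exact h3 (Submodule.mem_span_singleton_self e₂)
    obtain ⟨-, g₃, h3, hx3⟩ := exists_adj2 hR hL (F.Om_map (w * x) L hL) hwx he2L he2 h2.h.he0 hf2L h2.h.hne
    obtain ⟨u, hu1, hu2, hu3⟩ := exists_unip_one (F := F) h2.h.he' h3.h'.he' h3.hff h2.h'.he' h2.hff
    have hue : (u : V ≃ₗ[K] V) e₂ = e₂ := by
      rw [hu3 e₂ h2.h.hp, F.B_sub_right, h2.h'.hp, h3.h'.hp, sub_zero, zero_smul, sub_zero]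
    have hue' : im u (K ∙ e₂) = K ∙ e₂ := by rw [im_line, hue]
    have huf' : im u (K ∙ f₂) = K ∙ f₂ := by rw [im_line, hu1]
    have hug' : im u (K ∙ g₃) = K ∙ g₂ := by rw [im_line, hu2]
    have huL : im u L = L := by
      conv_lhs => rw [hL2]
      conv_rhs => rw [hL2]
      unfold im at hue' huf' ⊢
      rw [Submodule.map_sup, hue', huf']
    refine ⟨u * w, ?_, ?_⟩
    · rw [mem_St', im_mul, hwL, huL]
    · rw [im_mul, ← im_mul w x]
      have hx3' : im (w * x) L = (K ∙ e₂) ⊔ (K ∙ g₃) := hx3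
      rw [hx3', hy2]
      unfold im at hue' hug' ⊢
      rw [Submodule.map_sup, hue', hug']
  · intro x hx
    by_cases h0 : L ⊓ im x L = ⊥
    · right
      have hxL := F.Om_map x L hL
      have hxL' : im x L ∈ F.Om 2 := hxL
      rw [Submodule.eq_bot_iff]
      rintro v ⟨hv, hv'⟩
      obtain ⟨a, ha, ha0⟩ := Submodule.exists_mem_ne_zero_of_ne_bot (p := im x L) (fun h => by
        have := hxL'.2
        rw [h, finrank_bot] at this
        omega)
      obtain ⟨b, hb, hba⟩ := exists_second hxL'.2 a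
      have h1 := no3 hR (hxL'.1.sing ha) (hxL'.1.sing hb) (hL.1.sing hv) (hxL'.1.2 a ha b hb) ha0 hba
        (F.B_eq_zero (hv' a ha)) (F.B_eq_zero (hv' b hb))
      have h2 : (K ∙ a) ⊔ (K ∙ b) ≤ im x L :=
        sup_le ((Submodule.span_singleton_le_iff_mem a _).2 ha) ((Submodule.span_singleton_le_iff_mem b _).2 hb)
      have h3 : v ∈ L ⊓ im x L := ⟨hv, h2 h1⟩
      rw [h0] at h3
      exact (Submodule.mem_bot K).1 h3
    · exact Or.inl ⟨hx, h0⟩
  · intro y hy ψ hψ hψV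
    obtain ⟨e, f, f', h1, h2, h3⟩ := hex y hy
    exact dle_line hR h1 h2 h3 hψ hψV

end Cfsg.Agent.H113.Cusp.Asm
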