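import Cfsg.Agent.H710.Cuspidal
import Cfsg.Agent.H619.Gow.MackeyTwo
import Cfsg.Agent.H431.ExcChar
import Cfsg.Agent.S0928

/-!
# Large families of irreducible characters agreeing on a parabolic subgroup are cuspidal (helper113)

`P ≤ G`, `V ≤ P` normalised by `P`, `χ : ι → G → ℂ` a family of distinct irreducible characters which agree on `P`.

* `card_le` : if the sum over `V` is not zero then there is an irreducible character `ψ` of `P` trivial on `V` which is
  contained in all `χ i`, and `card ι ≤ [Ind ψ, Ind ψ]`.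
* `norm_le` : `[Ind ψ, Ind ψ] ≤ 1 + ∑ m(y)`, over representatives `y` of the double cosets outside `P`,
  `MLe P ψ y m` : `[ψ, ψ^y] ≤ m` on `P ∩ y P y⁻¹`.
* `mLe_mul` : `m(y) ≤ d(X) d(X')`, `X = P ∩ y V y⁻¹`, `X' = P ∩ y⁻¹ V y`, `d(X) = [ψ|X, 1]` (`DLe ψ X d`).
* `dLe_two` : `d(X) ≤ 2` in a rank one situation; `mLe_one` : `m(y) ≤ 1` in the opposite case.
-/

set_option autoImplicit false
set_option linter.unusedSectionVars false

open scoped ComplexConjugate
open Cfsg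

namespace Cfsg.Agent.H113.Cusp.Tool

open Cfsg.Agent.OddOrderCharacters.Clifford Cfsg.Agent.Characters Cfsg.Agent.H53.HC
  Cfsg.Agent.Characters.DegreeBounds Module Representation
open Cfsg.Agent.H710.Cuspidal (Z rho_mul_Z Z_mul_Z)

section fix

variable {P : Type*} [Group P] {V : Type*} [AddCommGroup V] [Module ℂ V]

/-- the vectors fixed by `X` -/
def fixS (ρ : Representation ℂ P V) (X : Subgroup P) : Submodule ℂ V where
  carrier := {v | ∀ x ∈ X, ρ x v = v}
  zero_mem' := fun x _ => map_zero _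
  add_mem' := fun {a b} ha hb x hx => by rw [map_add, ha x hx, hb x hx]
  smul_mem' := fun c a ha x hx => by rw [map_smul, ha x hx]

theorem mem_fixS {ρ : Representation ℂ P V} {X : Subgroup P} {v : V} : v ∈ fixS ρ X ↔ ∀ x ∈ X, ρ x v = v := Iff.rfl

/-- the projection to the fixed vectors -/
noncomputable def pr (ρ : Representation ℂ P V) (X : Subgroup P) [Fintype X] : Module.End ℂ V :=
  (Nat.card X : ℂ)⁻¹ • Z ρ X

variable (ρ : Representation ℂ P V) (X : Subgroup P) [Fintype X]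

theorem rho_mul_pr {x : P} (hx : x ∈ X) : ρ x * pr ρ X = pr ρ X := by
  unfold pr
  rw [mul_smul_comm, rho_mul_Z ρ X hx]

theorem pr_mul_rho {x : P} (hx : x ∈ X) : pr ρ X * ρ x = pr ρ X := by
  unfold pr
  rw [smul_mul_assoc]
  congr 1
  unfold Z
  rw [Finset.sum_mul]
  refine Fintype.sum_equiv (Equiv.mulRight (⟨x, hx⟩ : X)) _ _ fun y => ?_
  rw [← map_mul]
  rfl

theorem pr_mem (v : V) : pr ρ X v ∈ fixS ρ X := by
  intro x hx
  rw [← Module.End.mul_apply, rho_mul_pr ρ X hx]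

theorem pr_of_mem {v : V} (hv : v ∈ fixS ρ X) : pr ρ X v = v := by
  have hc : (Nat.card X : ℂ) ≠ 0 := Core.card_ne_zero_complex
  unfold pr Z
  rw [LinearMap.smul_apply, LinearMap.sum_apply, Finset.sum_congr rfl fun (x : X) _ => hv x x.2, Finset.sum_const,
    Finset.card_univ, ← Nat.card_eq_fintype_card, ← Nat.cast_smul_eq_nsmul ℂ, smul_smul, inv_mul_cancel₀ hc, one_smul]

theorem isProj_pr : LinearMap.IsProj (fixS ρ X) (pr ρ X) := ⟨pr_mem ρ X, fun _ hv => pr_of_mem ρ X hv⟩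

theorem av_eq [FiniteDimensional ℂ V] :
    (Nat.card X : ℂ)⁻¹ * ∑ x : X, ρ.character x = finrank ℂ (fixS ρ X) := by
  rw [← (isProj_pr ρ X).trace]
  unfold pr Z
  rw [map_smul, map_sum, smul_eq_mul]
  rfl

/-- **the Mackey term is at most the product of the numbers of fixed vectors** -/
theorem inner_le [FiniteDimensional ℂ V] {D : Type*} [Group D] [Fintype D] (f f' : D →* P) (X' : Subgroup P)
    [Fintype X'] (hX : ∀ x ∈ X, ∃ d, f d = x ∧ ρ (f' d) = 1) (hX' : ∀ x ∈ X', ∃ d, f' d = x ∧ ρ (f d) = 1) :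
    ∃ m : ℕ, m ≤ finrank ℂ (fixS ρ X) * finrank ℂ (fixS ρ X') ∧
      classInner (ρ.character ∘ f) (ρ.character ∘ f') = m := by
  have h1 := Core.classInner_character (ρ.comp f) (ρ.comp f')
  refine ⟨_, ?_, h1⟩
  have h2 : ∀ (T : IntertwiningMap (ρ.comp f') (ρ.comp f)) (v : V), T v ∈ fixS ρ X := by
    intro T v x hx
    obtain ⟨d, rfl, hd⟩ := hX x hx
    have : T (ρ (f' d) v) = ρ (f d) (T v) := LinearMap.congr_fun (T.isIntertwining' d) v
    rw [← this, hd]
    rfl
  let Φ : IntertwiningMap (ρ.comp f') (ρ.comp f) →ₗ[ℂ] (fixS ρ X' →ₗ[ℂ] fixS ρ X) :=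
    { toFun := fun T => (T.toLinearMap.comp (fixS ρ X').subtype).codRestrict (fixS ρ X) fun v => h2 T v
      map_add' := fun _ _ => rfl
      map_smul' := fun _ _ => rfl }
  have hΦ : Function.Injective Φ := by
    rw [injective_iff_map_eq_zero]
    intro T hT
    have h3 : ∀ v ∈ fixS ρ X', T v = 0 := fun v hv => congrArg Subtype.val (LinearMap.congr_fun hT ⟨v, hv⟩)
    have h4 : ∀ x ∈ X', ∀ v, T (ρ x v) = T v := by
      intro x hx v
      obtain ⟨d, rfl, hd⟩ := hX' x hx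
      have : T (ρ (f' d) v) = ρ (f d) (T v) := LinearMap.congr_fun (T.isIntertwining' d) v
      rw [this, hd]
      rfl
    have h5 : ∀ v, T (pr ρ X' v) = T v := by
      intro v
      have hc : (Nat.card X' : ℂ) ≠ 0 := Core.card_ne_zero_complex
      unfold pr Z
      rw [LinearMap.smul_apply, LinearMap.sum_apply, map_smul, map_sum, Finset.sum_congr rfl fun (x : X') _ => h4 x x.2 v,
        Finset.sum_const, Finset.card_univ, ← Nat.card_eq_fintype_card, ← Nat.cast_smul_eq_nsmul ℂ, smul_smul,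
        inv_mul_cancel₀ hc, one_smul]
    apply IntertwiningMap.ext
    ext v
    change T v = 0
    rw [← h5, h3 _ (pr_mem ρ X' v)]
  refine (LinearMap.finrank_le_finrank_of_injective hΦ).trans ?_
  rw [Module.finrank_linearMap, mul_comm]

/-- **at most two fixed vectors in the rank one situation** -/
theorem finrank_fix_le_two [FiniteDimensional ℂ V] [ρ.IsIrreducible] (B : Subgroup P) (w : P)
    (hcov : ∀ g : P, g ∈ B ∨ ∃ x ∈ X, ∃ b ∈ B, g = x * w * b)
    (hcomm : ∀ a ∈ B, ∀ b ∈ B, ∃ x ∈ X, ∃ k, ρ k = 1 ∧ a * b = b * a * x * k)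
    (hnorm : ∀ b ∈ B, ∀ x ∈ X, ∃ x' ∈ X, ∃ k, ρ k = 1 ∧ x * b = b * x' * k) : finrank ℂ (fixS ρ X) ≤ 2 := by
  classical
  by_cases h0 : fixS ρ X = ⊥
  · rw [h0, finrank_bot]
    exact Nat.zero_le _
  have hst : ∀ b ∈ B, ∀ v ∈ fixS ρ X, ρ b v ∈ fixS ρ X := by
    intro b hb v hv x hx
    obtain ⟨x', hx', k, hk, he⟩ := hnorm b hb x hx
    rw [← Module.End.mul_apply, ← map_mul, he, map_mul, map_mul, hk, mul_one, Module.End.mul_apply, hv x' hx']
  obtain ⟨v, hvW, hv0, hv⟩ := exists_common_eigenvector (fun b : B => ρ (b : P) * pr ρ X)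
    (fun a b => by
      ext u
      change ρ a (pr ρ X (ρ b (pr ρ X u))) = ρ b (pr ρ X (ρ a (pr ρ X u)))
      rw [pr_of_mem ρ X (hst b b.2 _ (pr_mem ρ X u)), pr_of_mem ρ X (hst a a.2 _ (pr_mem ρ X u))]
      obtain ⟨x, hx, k, hk, he⟩ := hcomm a a.2 b b.2
      have h1 : ρ (a * b : P) (pr ρ X u) = ρ (b * a : P) (pr ρ X u) := by
        rw [he, map_mul, map_mul, hk, mul_one, Module.End.mul_apply, pr_mem ρ X u x hx]
      rwa [map_mul, map_mul] at h1)
    (fixS ρ X) h0 (fun b u hu => by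
      change ρ (b : P) (pr ρ X u) ∈ _
      exact hst b b.2 _ (pr_mem ρ X u))
  have hv' : ∀ b ∈ B, ∃ c : ℂ, ρ b v = c • v := by
    intro b hb
    obtain ⟨c, hc⟩ := hv ⟨b, hb⟩
    refine ⟨c, ?_⟩
    change ρ b (pr ρ X v) = c • v at hc
    rwa [pr_of_mem ρ X hvW] at hc
  let S : Submodule ℂ V := Submodule.span ℂ {v, pr ρ X (ρ w v)}
  have hmem : ∀ g : P, pr ρ X (ρ g v) ∈ S := by
    intro g
    rcases hcov g with hg | ⟨x, hx, b, hb, rfl⟩
    · obtain ⟨c, hc⟩ := hv' g hg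
      rw [hc, map_smul, pr_of_mem ρ X hvW]
      exact S.smul_mem _ (Submodule.subset_span (Set.mem_insert _ _))
    · obtain ⟨c, hc⟩ := hv' b hb
      rw [map_mul, Module.End.mul_apply, hc, map_smul, map_smul, map_mul, Module.End.mul_apply,
        ← Module.End.mul_apply (pr ρ X), pr_mul_rho ρ X hx]
      exact S.smul_mem _ (Submodule.subset_span (Set.mem_insert_of_mem _ rfl))
  have htop : Submodule.span ℂ (Set.range fun g : P => ρ g v) = ⊤ := by
    apply eq_top_of_stable ρ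
    · intro g u hu
      induction hu using Submodule.span_induction with
      | mem x hx =>
        obtain ⟨q, rfl⟩ := hx
        refine Submodule.subset_span ⟨g * q, ?_⟩
        change ρ (g * q) v = ρ g (ρ q v)
        rw [map_mul, Module.End.mul_apply]
      | zero => rw [map_zero]; exact Submodule.zero_mem _
      | add x y _ _ hx hy => rw [map_add]; exact Submodule.add_mem _ hx hy
      | smul a x _ hx => rw [map_smul]; exact Submodule.smul_mem _ _ hx
    · intro h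
      apply hv0
      have : v ∈ Submodule.span ℂ (Set.range fun g : P => ρ g v) := Submodule.subset_span ⟨1, by
        change ρ 1 v = v
        rw [map_one]; rfl⟩
      rw [h] at this
      exact (Submodule.mem_bot ℂ).1 this
  have hle : fixS ρ X ≤ S := by
    intro u hu
    rw [← pr_of_mem ρ X hu]
    have h1 : Submodule.span ℂ (Set.range fun g : P => ρ g v) ≤ S.comap (pr ρ X) := by
      rw [Submodule.span_le]
      rintro _ ⟨g, rfl⟩
      exact hmem g
    rw [htop] at h1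
    exact h1 (Submodule.mem_top (x := u))
  refine (Submodule.finrank_mono hle).trans ?_
  have h2 := finrank_span_le_card (R := ℂ) ({v, pr ρ X (ρ w v)} : Set V)
  refine h2.trans ?_
  rw [Set.toFinset_insert, Set.toFinset_singleton]
  exact Finset.card_le_two

end fix

section chars

/-- restricting an irreducible character trivial on `V` to a group covering the quotient by `V` -/
theorem isIrr_comp_cover {P D : Type*} [Group P] [Group D] (f : D →* P) {n : ℕ} {ρ : Representation ℂ P (Fin n → ℂ)}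
    (hρ : ρ.IsIrreducible) (hf : ∀ g, ∃ d, ρ (f d) = ρ g) : IsIrrCharacter D (ρ.character ∘ f) := by
  refine ⟨n, ρ.comp f, ?_, rfl⟩
  have hnt : Nontrivial (Subrepresentation (ρ.comp f)) := by
    obtain ⟨a, b, hab⟩ := hρ.toNontrivial
    refine ⟨⟨a.toSubmodule, fun g v hv => a.apply_mem_toSubmodule (f g) hv⟩,
      ⟨b.toSubmodule, fun g v hv => b.apply_mem_toSubmodule (f g) hv⟩, fun h => hab ?_⟩
    apply Subrepresentation.toSubmodule_injective
    exact congrArg (Subrepresentation.toSubmodule (ρ := ρ.comp f)) h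
  refine ⟨fun a => ?_⟩
  have key : ∀ (g : P) ⦃v : Fin n → ℂ⦄, v ∈ a.toSubmodule → ρ g v ∈ a.toSubmodule := by
    intro g v hv
    obtain ⟨h, hh⟩ := hf g
    rw [← hh]
    exact a.apply_mem_toSubmodule h hv
  rcases hρ.eq_bot_or_eq_top ⟨a.toSubmodule, key⟩ with h | h
  · left
    apply Subrepresentation.toSubmodule_injective
    exact congrArg (Subrepresentation.toSubmodule (ρ := ρ)) h
  · right
    apply Subrepresentation.toSubmodule_injective
    exact congrArg (Subrepresentation.toSubmodule (ρ := ρ)) h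

/-- `[ψ|X, 1] ≤ d` -/
structure DLe {P : Type*} [Group P] (ψ : P → ℂ) (X : Subgroup P) (d : ℕ) : Prop where
  out : ∀ [Fintype X], ∃ k : ℕ, k ≤ d ∧ ∑ x : X, ψ x = (Nat.card X : ℂ) * k

theorem dLe_iff {P V : Type*} [Group P] [Finite P] [AddCommGroup V] [Module ℂ V] [FiniteDimensional ℂ V]
    (ρ : Representation ℂ P V) (X : Subgroup P) (d : ℕ) : DLe ρ.character X d ↔ finrank ℂ (fixS ρ X) ≤ d := by
  classical
  have hc : (Nat.card X : ℂ) ≠ 0 := Core.card_ne_zero_complex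
  constructor
  · intro h
    have : Fintype X := Fintype.ofFinite X
    obtain ⟨k, hk, h1⟩ := h.out
    have h2 := av_eq ρ X
    rw [h1, inv_mul_cancel_left₀ hc] at h2
    have h3 : k = finrank ℂ (fixS ρ X) := by exact_mod_cast h2
    rwa [← h3]
  · intro h
    refine ⟨fun {_} => ⟨_, h, ?_⟩⟩
    rw [← av_eq ρ X, mul_inv_cancel_left₀ hc]

theorem DLe.mono {P : Type*} [Group P] {ψ : P → ℂ} {X : Subgroup P} {d d' : ℕ} (h : DLe ψ X d) (hd : d ≤ d') :
    DLe ψ X d' := ⟨fun {_} => by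
  obtain ⟨k, hk, h1⟩ := h.out
  exact ⟨k, hk.trans hd, h1⟩⟩

theorem DLe.of_zero {P : Type*} [Group P] {ψ : P → ℂ} {X : Subgroup P} (h : ∀ [Fintype X], ∑ x : X, ψ x = 0) :
    DLe ψ X 0 := ⟨fun {_} => ⟨0, le_rfl, by rw [h]; simp⟩⟩

/-- a larger group has fewer fixed vectors -/
theorem DLe.anti {P : Type*} [Group P] [Finite P] {ψ : P → ℂ} (hψ : IsCharacter P ψ) {X Y : Subgroup P} {d : ℕ}
    (h : DLe ψ X d) (hXY : X ≤ Y) : DLe ψ Y d := by
  obtain ⟨n, ρ, rfl⟩ := hψ
  rw [dLe_iff] at h ⊢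
  refine (Submodule.finrank_mono ?_).trans h
  intro v hv x hx
  exact hv x (hXY hx)

/-- an irreducible character with a nonzero sum over a normal subgroup is trivial on it -/
theorem rho_eq_one {P : Type*} [Group P] [Finite P] {n : ℕ} {ρ : Representation ℂ P (Fin n → ℂ)}
    (hρ : ρ.IsIrreducible) {X : Subgroup P} (hX : X.Normal) (h : fixS ρ X ≠ ⊥) {x : P} (hx : x ∈ X) : ρ x = 1 := by
  have h1 := eq_top_of_stable ρ (fixS ρ X) (fun g v hv x hx => by
    have h2 : ρ x * ρ g = ρ g * ρ (g⁻¹ * x * g) := by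
      rw [← map_mul, ← map_mul]
      congr 1
      group
    have h3 : g⁻¹ * x * g ∈ X := by
      have := hX.conj_mem x hx g⁻¹
      rwa [inv_inv] at this
    have h4 := LinearMap.congr_fun h2 v
    rw [Module.End.mul_apply, Module.End.mul_apply, hv _ h3] at h4
    exact h4) h
  ext1 i
  refine LinearMap.ext_ring ?_
  have h2 : LinearMap.single ℂ (fun _ : Fin n => ℂ) i 1 ∈ fixS ρ X := by rw [h1]; trivial
  exact h2 x hx

theorem rho_eq_one_of_char {P : Type*} [Group P] [Finite P] {n : ℕ} {ρ : Representation ℂ P (Fin n → ℂ)}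
    (hρ : ρ.IsIrreducible) {X : Subgroup P} (hX : X.Normal) (h : ∀ x ∈ X, ρ.character x = ρ.character 1) {x : P}
    (hx : x ∈ X) : ρ x = 1 := by
  classical
  have : Fintype X := Fintype.ofFinite X
  have hc : (Nat.card X : ℂ) ≠ 0 := Core.card_ne_zero_complex
  refine rho_eq_one hρ hX (fun h0 => ?_) hx
  have h1 := av_eq ρ X
  rw [Finset.sum_congr rfl fun (x : X) _ => h x x.2, Finset.sum_const, Finset.card_univ, ← Nat.card_eq_fintype_card,
    nsmul_eq_mul, inv_mul_cancel_left₀ hc, h0, finrank_bot, Nat.cast_zero] at h1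
  exact Core.isIrr_apply_one_ne_zero (⟨n, ρ, hρ, rfl⟩ : IsIrrCharacter P ρ.character) h1

/-- **at most two fixed vectors in the rank one situation** -/
theorem dLe_two {P : Type*} [Group P] [Finite P] {ψ : P → ℂ} (hψ : IsIrrCharacter P ψ) {V : Subgroup P}
    (hV : V.Normal) (hψV : ∀ v ∈ V, ψ v = ψ 1) (B X : Subgroup P) (w : P)
    (hcov : ∀ g : P, g ∈ B ∨ ∃ x ∈ X, ∃ b ∈ B, g = x * w * b)
    (hcomm : ∀ a ∈ B, ∀ b ∈ B, ∃ x ∈ X, ∃ k ∈ V, a * b = b * a * x * k)
    (hnorm : ∀ b ∈ B, ∀ x ∈ X, ∃ x' ∈ X, ∃ k ∈ V, x * b = b * x' * k) : DLe ψ X 2 := by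
  classical
  have : Fintype X := Fintype.ofFinite X
  obtain ⟨n, ρ, hρ, rfl⟩ := hψ
  rw [dLe_iff]
  have h1 : ∀ k ∈ V, ρ k = 1 := fun k hk => rho_eq_one_of_char hρ hV hψV hk
  exact finrank_fix_le_two ρ X B w hcov (fun a ha b hb => by
    obtain ⟨x, hx, k, hk, he⟩ := hcomm a ha b hb
    exact ⟨x, hx, k, h1 k hk, he⟩) (fun b hb x hx => by
    obtain ⟨x', hx', k, hk, he⟩ := hnorm b hb x hx
    exact ⟨x', hx', k, h1 k hk, he⟩)

end chars

section mackey

variable {G : Type*} [Group G]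

/-- the Mackey term at `y` is at most `m` -/
structure MLe (P : Subgroup G) (ψ : P → ℂ) (y : G) (m : ℕ) : Prop where
  out : ∀ [Fintype (dsub P y)], ∃ k : ℕ, k ≤ m ∧ classInner (ψ ∘ (dsub P y).subtype) (ψ ∘ dhom P y) = k

/-- the elements of `P` which are mapped into `V` by `y⁻¹` -/
def xs (P V : Subgroup G) (y : G) : Subgroup P := (V.comap (MulAut.conj y⁻¹).toMonoidHom).subgroupOf P

theorem mem_xs {P V : Subgroup G} {y : G} {x : P} : x ∈ xs P V y ↔ y⁻¹ * (x : G) * y ∈ V := by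
  unfold xs
  rw [Subgroup.mem_subgroupOf, Subgroup.mem_comap]
  simp

/-- the elements of `P` in `V` -/
theorem normal_subgroupOf {P V : Subgroup G} (hV : ∀ g ∈ P, ∀ v ∈ V, g * v * g⁻¹ ∈ V) : (V.subgroupOf P).Normal := by
  refine ⟨fun v hv g => ?_⟩
  rw [Subgroup.mem_subgroupOf] at hv ⊢
  exact hV g g.2 v hv

/-- **the product bound** -/
theorem mLe_mul [Finite G] {P V : Subgroup G} (hVP : V ≤ P) (hV : ∀ g ∈ P, ∀ v ∈ V, g * v * g⁻¹ ∈ V) {ψ : P → ℂ}
    (hψ : IsIrrCharacter P ψ) (hψV : ∀ v : P, (v : G) ∈ V → ψ v = ψ 1) {y : G} {d d' : ℕ} (h : DLe ψ (xs P V y) d)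
    (h' : DLe ψ (xs P V y⁻¹) d') : MLe P ψ y (d * d') := by
  classical
  refine ⟨fun {_} => ?_⟩
  have := Fintype.ofFinite (xs P V y)
  have := Fintype.ofFinite (xs P V y⁻¹)
  obtain ⟨n, ρ, hρ, rfl⟩ := hψ
  rw [dLe_iff] at h h'
  have h1 : ∀ k : P, (k : G) ∈ V → ρ k = 1 := fun k hk =>
    rho_eq_one_of_char hρ (normal_subgroupOf hV) (fun v hv => hψV v hv) (x := k) hk
  obtain ⟨m, hm, he⟩ := inner_le ρ (xs P V y) (dsub P y).subtype (dhom P y) (xs P V y⁻¹)
    (fun x hx => ⟨⟨x, (mem_dsub P y x).2 (hVP (mem_xs.1 hx))⟩, rfl, h1 _ (mem_xs.1 hx)⟩)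
    (fun x hx => by
      have hx' := mem_xs.1 hx
      rw [inv_inv] at hx'
      have e : y⁻¹ * (y * (x : G) * y⁻¹) * y = x := by group
      refine ⟨⟨⟨y * x * y⁻¹, hVP hx'⟩, (mem_dsub P y _).2 ?_⟩, ?_, h1 _ hx'⟩
      · change y⁻¹ * (y * (x : G) * y⁻¹) * y ∈ P
        rw [e]; exact x.2
      · apply Subtype.ext
        exact e)
  exact ⟨m, hm.trans (Nat.mul_le_mul h h'), he⟩

/-- **the opposite case** -/
theorem mLe_one [Finite G] {P V : Subgroup G} (hV : ∀ g ∈ P, ∀ v ∈ V, g * v * g⁻¹ ∈ V) {ψ : P → ℂ}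
    (hψ : IsIrrCharacter P ψ) (hψV : ∀ v : P, (v : G) ∈ V → ψ v = ψ 1) {y : G}
    (h : ∀ g ∈ P, ∃ l ∈ P, y⁻¹ * l * y ∈ P ∧ l⁻¹ * g ∈ V) (h' : ∀ g ∈ P, ∃ l ∈ P, y * l * y⁻¹ ∈ P ∧ l⁻¹ * g ∈ V) :
    MLe P ψ y 1 := by
  classical
  refine ⟨fun {_} => ?_⟩
  obtain ⟨n, ρ, hρ, rfl⟩ := hψ
  have h1 : ∀ k : P, (k : G) ∈ V → ρ k = 1 := fun k hk =>
    rho_eq_one_of_char hρ (normal_subgroupOf hV) (fun v hv => hψV v hv) (x := k) hk
  have h2 : ∀ l g : P, (l : G)⁻¹ * g ∈ V → ρ l = ρ g := by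
    intro l g hlg
    have h3 := h1 (l⁻¹ * g) hlg
    have h4 : l * (l⁻¹ * g) = g := by group
    rw [← h4, map_mul, h3, mul_one]
  have a1 := isIrr_comp_cover (dsub P y).subtype hρ (fun g => by
    obtain ⟨l, hl, hl', hlg⟩ := h g g.2
    exact ⟨⟨⟨l, hl⟩, (mem_dsub P y _).2 hl'⟩, h2 _ _ hlg⟩)
  have a2 := isIrr_comp_cover (dhom P y) hρ (fun g => by
    obtain ⟨l, hl, hl', hlg⟩ := h' g g.2
    have e : y⁻¹ * (y * l * y⁻¹) * y = l := by group
    refine ⟨⟨⟨y * l * y⁻¹, hl'⟩, (mem_dsub P y _).2 (by rw [e]; exact hl)⟩, ?_⟩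
    have e2 : dhom P y ⟨⟨y * l * y⁻¹, hl'⟩, (mem_dsub P y _).2 (by rw [e]; exact hl)⟩ = ⟨l, hl⟩ := Subtype.ext e
    rw [e2]
    exact h2 _ _ hlg)
  rcases H619.Gow.inner_irr_mem a1 a2 with h3 | h3
  · exact ⟨0, by norm_num, by rw [h3]; simp⟩
  · exact ⟨1, le_rfl, by rw [h3]; simp⟩

open scoped Classical in
theorem sum_dcoset [Fintype G] (P : Subgroup G) [Fintype P] {ψ : P → ℂ} (hcl : IsClassFunction P ψ) (y : G)
    [Fintype (dsub P y)] :
    ∑ x ∈ Finset.univ.filter (fun x => ∃ a ∈ P, ∃ b ∈ P, x = a * y * b), twist P ψ ψ x =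
      (Nat.card P : ℂ) * Nat.card P * classInner (ψ ∘ (dsub P y).subtype) (ψ ∘ dhom P y) := by
  classical
  set D : Set G := {x | ∃ a ∈ P, ∃ b ∈ P, x = a * y * b} with hD
  have e0 : (Finset.univ.filter (fun x => ∃ a ∈ P, ∃ b ∈ P, x = a * y * b) : Finset G) =
      Finset.univ.filter (fun x => x ∈ D) := rfl
  set m := classInner (ψ ∘ (dsub P y).subtype) (ψ ∘ dhom P y) with hm
  have h2 : (Nat.card (dsub P y) : ℂ) * ∑ x ∈ Finset.univ.filter (fun x => x ∈ D), twist P ψ ψ x =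
      (Nat.card (dsub P y) : ℂ) * ((Nat.card P : ℂ) * Nat.card P * m) := by
    have h3 : ∑ ab : P × P, twist P ψ ψ ((ab.1 : G) * y * ab.2) = (Nat.card P : ℂ) * Nat.card P *
        ((Nat.card (dsub P y) : ℂ) * m) := by
      rw [Finset.sum_congr rfl fun ab _ => twist_mul P hcl hcl ab.1.2 ab.2.2 y, Finset.sum_const, Finset.card_univ,
        Fintype.card_prod, ← Nat.card_eq_fintype_card, nsmul_eq_mul, H619.Gow.twist_eq_inner, Nat.cast_mul]
    have h4 : ∑ ab : P × P, twist P ψ ψ ((ab.1 : G) * y * ab.2) =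
        ∑ x ∈ Finset.univ.filter (fun x => x ∈ D), ∑ ab : P × P,
          if (ab.1 : G) * y * ab.2 = x then twist P ψ ψ x else 0 := by
      rw [Finset.sum_comm]
      refine Finset.sum_congr rfl fun ab _ => ?_
      rw [Finset.sum_ite_eq, if_pos]
      rw [Finset.mem_filter]
      exact ⟨Finset.mem_univ _, ab.1, ab.1.2, ab.2, ab.2.2, rfl⟩
    have h5 : ∀ x ∈ Finset.univ.filter (fun x => x ∈ D), (∑ ab : P × P,
          if (ab.1 : G) * y * ab.2 = x then twist P ψ ψ x else 0) =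
        (Nat.card (dsub P y) : ℂ) * twist P ψ ψ x := by
      intro x hx
      obtain ⟨a, ha, b, hb, rfl⟩ := (Finset.mem_filter.1 hx).2
      rw [← Finset.sum_filter, Finset.sum_const, H619.Gow.card_fiber P y ha hb, nsmul_eq_mul]
    rw [Finset.mul_sum, ← Finset.sum_congr rfl h5, ← h4, h3]
    ring
  rw [e0]
  exact mul_left_cancel₀ (card_ne_zero' (G := dsub P y)) h2

/-- **the norm of an induced character is at most one plus the sum of the Mackey terms** -/
theorem norm_le [Fintype G] (P : Subgroup G) {ψ : P → ℂ} (hψ : IsIrrCharacter P ψ) {ι : Type*} [Fintype ι]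
    (y : ι → G) (m : ι → ℕ) (h : ∀ x : G, x ∉ P → ∃ i, ∃ a ∈ P, ∃ b ∈ P, x = a * y i * b)
    (hm : ∀ i, MLe P ψ (y i) (m i)) :
    ∃ N : ℕ, N ≤ 1 + ∑ i, m i ∧ classInner (indFun P ψ) (indFun P ψ) = N := by
  classical
  have : Fintype P := Fintype.ofFinite P
  have hcl := Core.isIrr_isClassFunction hψ
  have hc := Core.isIrr_isCharacter hψ
  have hI := Cfsg.Agent.S0148.result P ψ hc
  obtain ⟨N, hN⟩ := Core.classInner_isNat hI hI
  refine ⟨N, ?_, hN⟩
  choose t ht using fun x => twist_eq_nat P hc hc x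
  have hk : ∀ i, ∃ k : ℕ, k ≤ m i ∧ ∀ [Fintype (dsub P (y i))],
      classInner (ψ ∘ (dsub P (y i)).subtype) (ψ ∘ dhom P (y i)) = k := by
    intro i
    have := Fintype.ofFinite (dsub P (y i))
    obtain ⟨k, hk, he⟩ := (hm i).out
    refine ⟨k, hk, fun {_} => ?_⟩
    convert he
  choose k hk1 hk2 using hk
  have hP : 0 < Nat.card P := Nat.card_pos
  have h1 : ∑ x : G, t x = Nat.card P * Nat.card P * N := by
    have h2 := classInner_indFun_indFun P ψ ψ
    rw [hN, Finset.sum_congr rfl fun x _ => ht x] at h2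
    have h3 : (Nat.card P : ℂ) ≠ 0 := card_ne_zero'
    field_simp at h2
    have h4 : ((Nat.card P * Nat.card P * N : ℕ) : ℂ) = ((∑ x : G, t x : ℕ) : ℂ) := by
      push_cast
      linear_combination h2
    exact_mod_cast h4.symm
  have h2 : ∑ x ∈ Finset.univ.filter (fun x => x ∈ P), t x = Nat.card P * Nat.card P := by
    have h3 : ∀ x ∈ Finset.univ.filter (fun x => x ∈ P), t x = Nat.card P := by
      intro x hx
      have h4 := twist_of_mem P ψ ψ hcl x (Finset.mem_filter.1 hx).2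
      rw [Core.classInner_irr_self hψ, mul_one, ht] at h4
      exact_mod_cast h4
    rw [Finset.sum_congr rfl h3, Finset.sum_const, smul_eq_mul]
    congr 1
    rw [← Fintype.card_subtype, ← Nat.card_eq_fintype_card]
  have h3 : ∀ i, ∑ x ∈ Finset.univ.filter (fun x => ∃ a ∈ P, ∃ b ∈ P, x = a * y i * b), t x =
      Nat.card P * Nat.card P * k i := by
    intro i
    have := Fintype.ofFinite (dsub P (y i))
    have h4 := sum_dcoset P hcl (y i)
    rw [hk2, Finset.sum_congr rfl fun x _ => ht x] at h4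
    exact_mod_cast h4
  have h4 : ∑ x ∈ Finset.univ.filter (fun x => x ∉ P), t x ≤
      ∑ i, ∑ x ∈ Finset.univ.filter (fun x => ∃ a ∈ P, ∃ b ∈ P, x = a * y i * b), t x := by
    have h5 : ∀ i, ∑ x ∈ Finset.univ.filter (fun x => ∃ a ∈ P, ∃ b ∈ P, x = a * y i * b), t x =
        ∑ x : G, if (∃ a ∈ P, ∃ b ∈ P, x = a * y i * b) then t x else 0 := fun i => Finset.sum_filter _ _
    rw [Finset.sum_congr rfl fun i _ => h5 i, Finset.sum_comm]
    refine (Finset.sum_le_sum fun x hx => ?_).trans (Finset.sum_le_sum_of_subset (Finset.filter_subset _ _))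
    obtain ⟨i, hi⟩ := h x (Finset.mem_filter.1 hx).2
    have h6 := Finset.single_le_sum (f := fun i => if (∃ a ∈ P, ∃ b ∈ P, x = a * y i * b) then t x else 0)
      (fun i _ => Nat.zero_le _) (Finset.mem_univ i)
    rwa [if_pos hi] at h6
  have h5 := Finset.sum_filter_add_sum_filter_not Finset.univ (fun x => x ∈ P) t
  rw [h1, h2] at h5
  rw [Finset.sum_congr rfl fun i _ => h3 i, ← Finset.mul_sum] at h4
  have h6 : Nat.card P * Nat.card P * N ≤ Nat.card P * Nat.card P * (1 + ∑ i, k i) := by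
    rw [← h5, mul_add, mul_one]
    exact Nat.add_le_add_left h4 _
  have h7 := Nat.le_of_mul_le_mul_left h6 (Nat.mul_pos hP hP)
  exact h7.trans (Nat.add_le_add_left (Finset.sum_le_sum fun i _ => hk1 i) 1)

/-- **a family agreeing on `P` with vectors fixed by `V`** -/
theorem card_le [Fintype G] {P V : Subgroup G} (hVP : V ≤ P) (hV : ∀ g ∈ P, ∀ v ∈ V, g * v * g⁻¹ ∈ V)
    {ι : Type*} [Fintype ι] (χ : ι → G → ℂ) (hχ : ∀ i, IsIrrCharacter G (χ i)) (hinj : Function.Injective χ)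
    (hres : ∀ i j, ∀ g ∈ P, χ i g = χ j g) [Fintype V] (i₀ : ι) (h : ∑ v : V, χ i₀ v ≠ 0) :
    ∃ ψ : P → ℂ, IsIrrCharacter P ψ ∧ (∀ v : P, (v : G) ∈ V → ψ v = ψ 1) ∧
      ∀ N : ℕ, classInner (indFun P ψ) (indFun P ψ) = N → Fintype.card ι ≤ N ∧
        (Fintype.card ι = N → indFun P ψ = ∑ i, χ i) := by
  classical
  have : Fintype P := Fintype.ofFinite P
  have : Fintype (V.subgroupOf P) := Fintype.ofFinite _
  have hc₀ : IsCharacter P (χ i₀ ∘ P.subtype) := Core.isCharacter_comp _ (Core.isIrr_isCharacter (hχ i₀))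
  have : Finite (IrrCharacter P) := Core.finite_irr
  let _ : Fintype (IrrCharacter P) := Fintype.ofFinite _
  obtain ⟨m, hm⟩ := Core.isCharacter_iff.1 hc₀
  have e1 : ∑ v : V.subgroupOf P, χ i₀ ((v : P) : G) = ∑ v : V, χ i₀ v := by
    refine Fintype.sum_equiv (Subgroup.subgroupOfEquivOfLe hVP).toEquiv _ _ fun v => ?_
    rfl
  have e2 : ∑ v : V.subgroupOf P, χ i₀ ((v : P) : G) =
      ∑ ψ : IrrCharacter P, (m ψ : ℂ) * ∑ v : V.subgroupOf P, (ψ : P → ℂ) v := by
    have e3 : ∀ v : V.subgroupOf P, χ i₀ ((v : P) : G) = ∑ ψ : IrrCharacter P, (m ψ : ℂ) * (ψ : P → ℂ) v := by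
      intro v
      have := congrFun hm (v : P)
      rw [Finset.sum_apply] at this
      refine this.trans (Finset.sum_congr rfl fun ψ _ => ?_)
      rw [Pi.smul_apply, nsmul_eq_mul]
    rw [Finset.sum_congr rfl fun v _ => e3 v, Finset.sum_comm]
    exact Finset.sum_congr rfl fun ψ _ => (Finset.mul_sum _ _ _).symm
  obtain ⟨ψ, hψ0⟩ : ∃ ψ : IrrCharacter P, (m ψ : ℂ) * ∑ v : V.subgroupOf P, (ψ : P → ℂ) v ≠ 0 := by
    by_contra hcon
    push Not at hcon
    apply h
    rw [← e1, e2, Finset.sum_eq_zero fun ψ _ => hcon ψ]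
  have hm0 : m ψ ≠ 0 := by
    intro h0
    apply hψ0
    rw [h0, Nat.cast_zero, zero_mul]
  have hs0 : ∑ v : V.subgroupOf P, (ψ : P → ℂ) v ≠ 0 := right_ne_zero_of_mul hψ0
  have hmi : ∀ i, classInner (χ i ∘ P.subtype) (ψ : P → ℂ) = m ψ := by
    intro i
    have e4 : χ i ∘ P.subtype = χ i₀ ∘ P.subtype := by
      funext g
      exact hres i i₀ g g.2
    rw [e4, hm]
    exact Core.classInner_sum_nsmul_irr m ψ
  refine ⟨ψ, ψ.2, ?_, fun N hN => ?_⟩
  · obtain ⟨n, ρ, hρ, hρψ⟩ := ψ.2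
    intro v hv
    have h1 : ρ v = 1 := by
      refine rho_eq_one hρ (normal_subgroupOf (P := P) hV) (fun h0 => hs0 ?_) (x := v) hv
      have h2 := av_eq ρ (V.subgroupOf P)
      rw [h0, finrank_bot, Nat.cast_zero, hρψ] at h2
      rcases mul_eq_zero.1 h2 with h3 | h3
      · exact absurd h3 (inv_ne_zero Core.card_ne_zero_complex)
      · exact h3
    rw [← hρψ]
    change LinearMap.trace ℂ _ (ρ v) = LinearMap.trace ℂ _ (ρ 1)
    rw [h1, map_one ρ]
  · have hI := Cfsg.Agent.S0148.result P _ (Core.isIrr_isCharacter ψ.2)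
    have hIm : ∀ i, classInner (indFun P (ψ : P → ℂ)) (χ i) = m ψ := by
      intro i
      have h1 : classInner (indFun P (ψ : P → ℂ)) (χ i) = classInner (ψ : P → ℂ) (χ i ∘ P.subtype) :=
        classInner_indFun P _ _ (Core.isIrr_isClassFunction (hχ i))
      rw [h1, ← Core.classInner_conj_symm, hmi, Complex.conj_natCast]
    have hgen : IsGeneralizedCharacter G (indFun P (ψ : P → ℂ)) :=
      ⟨_, 0, hI, Core.isCharacter_zero, by rw [sub_zero]⟩
    obtain ⟨a, ha, ha'⟩ := H431.ExcChar.bessel hgen (n := N) (by rw [hN]; simp) χ hχ hinj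
    have ha1 : ∀ i, a i = m ψ := by
      intro i
      have := ha i
      rw [hIm] at this
      exact_mod_cast this.symm
    have hpos : 1 ≤ m ψ := Nat.one_le_iff_ne_zero.2 hm0
    have hsum : Fintype.card ι * m ψ ^ 2 ≤ N := by
      rw [Finset.sum_congr rfl fun i _ => by rw [ha1 i], Finset.sum_const, Finset.card_univ] at ha'
      rw [nsmul_eq_mul] at ha'
      exact_mod_cast ha'
    refine ⟨(Nat.le_mul_of_pos_right _ (by positivity)).trans hsum, fun hcard => ?_⟩
    have hm1 : m ψ = 1 := by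
      have hcp : 0 < Fintype.card ι := Fintype.card_pos_iff.2 ⟨i₀⟩
      rw [hcard] at hsum hcp
      by_contra hne
      have h2 : 2 ≤ m ψ := by omega
      have h3 : 4 ≤ m ψ ^ 2 := by nlinarith
      nlinarith
    have h0 : classInner (indFun P (ψ : P → ℂ) - ∑ i, χ i) (indFun P (ψ : P → ℂ) - ∑ i, χ i) = 0 := by
      have b1 : classInner (indFun P (ψ : P → ℂ)) (∑ i, χ i) = Fintype.card ι := by
        rw [Core.classInner_sum_right, Finset.sum_congr rfl fun i _ => hIm i, hm1, Finset.sum_const, Finset.card_univ]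
        simp
      have b2 : classInner (∑ i, χ i) (indFun P (ψ : P → ℂ)) = Fintype.card ι := by
        rw [← Core.classInner_conj_symm, b1, Complex.conj_natCast]
      have b3 : classInner (∑ i, χ i) (∑ i, χ i) = Fintype.card ι := by
        rw [Core.classInner_sum_right, Finset.sum_congr rfl (g := fun _ => (1 : ℂ)), Finset.sum_const, Finset.card_univ]
        · simp
        · intro i _
          rw [Core.classInner_sum_left, Finset.sum_eq_single i]
          · exact Core.classInner_irr_self (hχ i)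
          · intro j _ hj
            exact Core.classInner_irr_ne (hχ j) (hχ i) fun he => hj (hinj he)
          · intro hi
            exact absurd (Finset.mem_univ i) hi
      rw [Core.classInner_sub_left, Core.classInner_sub_right, Core.classInner_sub_right, hN, b1, b2, b3, hcard]
      ring
    exact sub_eq_zero.1 (Core.classInner_self_eq_zero h0)

/-- **Large families agreeing on `P` are cuspidal.** -/
theorem sum_eq_zero [Fintype G] {P V : Subgroup G} (hVP : V ≤ P) (hV : ∀ g ∈ P, ∀ v ∈ V, g * v * g⁻¹ ∈ V)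
    {ι : Type*} [Fintype ι] {χ : ι → G → ℂ} (hχ : ∀ i, IsIrrCharacter G (χ i)) (hinj : Function.Injective χ)
    (hres : ∀ i j, ∀ g ∈ P, χ i g = χ j g) {κ : Type*} [Fintype κ] (y : κ → G) (m : κ → ℕ)
    (hcov : ∀ x : G, x ∉ P → ∃ k, ∃ a ∈ P, ∃ b ∈ P, x = a * y k * b)
    (hm : ∀ ψ : P → ℂ, IsIrrCharacter P ψ → (∀ v : P, (v : G) ∈ V → ψ v = ψ 1) → ∀ k, MLe P ψ (y k) (m k))
    (hcard : 1 + ∑ k, m k < Fintype.card ι) [Fintype V] (i : ι) : ∑ v : V, χ i v = 0 := by
  by_contra h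
  obtain ⟨ψ, hψ, hψV, h1⟩ := card_le hVP hV χ hχ hinj hres i h
  obtain ⟨N, hN, hN'⟩ := norm_le P hψ y m hcov (hm ψ hψ hψV)
  have := (h1 N hN').1
  omega

/-- **Defect zero.** -/
theorem defect_zero [Finite G] {p : ℕ} [Fact p.Prime] {χ : G → ℂ} (hχ : IsIrrCharacter G χ)
    (h : ∀ g : G, orderOf g = p → ∃ V : Subgroup G, (∀ [Fintype V], ∑ v : V, χ v = 0) ∧
      (∀ u, u ∈ V ↔ g * u * g⁻¹ ∈ V) ∧ ∀ u ∈ V, g * u = u * g → u = 1) :
    (charDegree χ).factorization p = (Nat.card G).factorization p := by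
  classical
  refine Cfsg.Agent.S0928.result p ⟨χ, hχ⟩ fun g hg => ?_
  obtain ⟨V, h1, h2, h3⟩ := h g hg
  have : Fintype V := Fintype.ofFinite V
  obtain ⟨n, ρ, hρ, rfl⟩ := hχ
  exact H710.Cuspidal.zero_of_regular ρ V h1 h2 h3

theorem dvd_of_defect_zero [Finite G] {p : ℕ} [Fact p.Prime] {χ : G → ℂ} (hχ : IsIrrCharacter G χ)
    (h : (charDegree χ).factorization p = (Nat.card G).factorization p) {k : ℕ} (hk : p ^ k ∣ Nat.card G) :
    p ^ k ∣ charDegree χ := by
  have h0 : charDegree χ ≠ 0 := by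
    intro h0
    have := Cfsg.Agent.Blocks.Basic.irr_one_eq_charDegree hχ
    rw [h0, Nat.cast_zero] at this
    exact Core.isIrr_apply_one_ne_zero hχ this
  rw [Nat.Prime.pow_dvd_iff_le_factorization Fact.out h0, h]
  exact (Nat.Prime.pow_dvd_iff_le_factorization Fact.out Nat.card_pos.ne').1 hk

end mackey

end Cfsg.Agent.H113.Cusp.Tool
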