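import Mathlib
import Cfsg.Agent.H113.Cusp.Tool
import Cfsg.Agent.H595.Central
import Cfsg.Agent.S0198

/-!
# Exceptional characters of a torus with controlled fusion (helper113)

`Tor T N B` : `T` abelian, normalised by `N ≥ T`, and `g t g⁻¹ ∈ T`, `t ∈ T \ B` imply `g ∈ N`.
`exists_chars` : distinct irreducible characters which agree at all elements without conjugates in `T \ B`, from a
family of linear characters of `T` trivial on `B`, regular and pairwise not conjugate under `N`;
`exists_family` : the same, from a homomorphism of `T` onto a cyclic group on which `N` acts by powers.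
-/

set_option autoImplicit false
set_option linter.unusedSectionVars false
set_option linter.style.haveILetI false

open scoped ComplexConjugate
open Cfsg

namespace Cfsg.Agent.H113.Cusp.Exc

open Cfsg.Agent.OddOrderCharacters.Clifford Cfsg.Agent.Characters

variable {G : Type*} [Group G] {T N B : Subgroup G}

/-- an abelian subgroup with controlled fusion -/
structure Tor (T N B : Subgroup G) : Prop where
  le : T ≤ N
  comm : ∀ a ∈ T, ∀ b ∈ T, a * b = b * a
  norm : ∀ x ∈ N, ∀ t ∈ T, x * t * x⁻¹ ∈ T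
  fus : ∀ t ∈ T, t ∉ B → ∀ g : G, g * t * g⁻¹ ∈ T → g ∈ N

theorem Tor.norm' (h : Tor T N B) {x : G} (hx : x ∈ N) {t : G} (ht : t ∈ T) : x⁻¹ * t * x ∈ T := by
  have := h.norm x⁻¹ (N.inv_mem hx) t ht
  rwa [inv_inv] at this

/-- the conjugate of a linear character -/
def Tor.cj (h : Tor T N B) (x : N) (θ : T →* ℂˣ) : T →* ℂˣ where
  toFun t := θ ⟨(x : G)⁻¹ * t * x, h.norm' x.2 t.2⟩
  map_one' := by
    rw [← map_one θ]
    congr 1
    apply Subtype.ext
    change (x : G)⁻¹ * 1 * x = 1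
    group
  map_mul' a b := by
    rw [← map_mul]
    congr 1
    apply Subtype.ext
    change (x : G)⁻¹ * (a * b) * x = (x : G)⁻¹ * a * x * ((x : G)⁻¹ * b * x)
    group

theorem Tor.cj_apply (h : Tor T N B) (x : N) (θ : T →* ℂˣ) (t : T) :
    h.cj x θ t = θ ⟨(x : G)⁻¹ * t * x, h.norm' x.2 t.2⟩ := rfl

/-- `θ` as a function -/
noncomputable def lin (θ : T →* ℂˣ) : T → ℂ := fun t => (θ t : ℂ)

theorem lin_inj {θ η : T →* ℂˣ} (h : lin θ = lin η) : θ = η := by
  ext t
  exact congrFun h t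

open scoped Classical in
theorem inner_lin [Fintype T] (θ η : T →* ℂˣ) : classInner (lin θ) (lin η) = if θ = η then 1 else 0 := by
  have h1 : IsIrrCharacter T (lin θ) := H595.Central.isIrr_hom θ
  have h2 : IsIrrCharacter T (lin η) := H595.Central.isIrr_hom η
  rw [Core.classInner_irr h1 h2]
  by_cases h : θ = η
  · rw [if_pos h, if_pos (by rw [h])]
  · rw [if_neg h, if_neg fun h' => h (lin_inj h')]

theorem Tor.twist_of_notMem (h : Tor T N B) [Fintype T] {α : T → ℂ} (β : T → ℂ)
    (hα : ∀ t : T, (t : G) ∈ B → α t = 0) {x : G} (hx : x ∉ N) : twist T α β x = 0 := by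
  rw [twist_def]
  refine Finset.sum_eq_zero fun t _ => ?_
  by_cases ht : (t : G) ∈ B
  · rw [hα t ht, zero_mul]
  · rw [ext_apply_not_mem T β, map_zero, mul_zero]
    intro hm
    apply hx
    have := h.fus t t.2 ht x⁻¹ (by rwa [inv_inv])
    exact (inv_mem_iff (x := x)).1 this

theorem Tor.twist_of_mem (h : Tor T N B) [Fintype T] (θ η η' : T →* ℂˣ) (α : T → ℂ) (x : N) :
    twist T α (lin η - lin η') x = (Nat.card T : ℂ) * classInner α (lin (h.cj x η) - lin (h.cj x η')) := by
  rw [Core.classInner_def, mul_inv_cancel_left₀ Core.card_ne_zero_complex, twist_def]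
  refine Finset.sum_congr rfl fun t _ => ?_
  rw [ext_apply_mem T _ _ (h.norm' x.2 t.2)]
  rfl

open scoped Classical in
theorem Tor.inner_ind (h : Tor T N B) [Fintype G] [Fintype T] [Fintype N] {θ θ' η η' : T →* ℂˣ}
    (hB : ∀ t : T, (t : G) ∈ B → θ t = θ' t) :
    classInner (indFun T (lin θ - lin θ')) (indFun T (lin η - lin η')) = (Nat.card T : ℂ)⁻¹ *
      ∑ x : N, ((if θ = h.cj x η then (1 : ℂ) else 0) - (if θ = h.cj x η' then (1 : ℂ) else 0) -
        (if θ' = h.cj x η then (1 : ℂ) else 0) + (if θ' = h.cj x η' then (1 : ℂ) else 0)) := by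
  rw [classInner_indFun_indFun]
  congr 1
  have hα : ∀ t : T, (t : G) ∈ B → (lin θ - lin θ') t = 0 := by
    intro t ht
    rw [Pi.sub_apply]
    unfold lin
    rw [hB t ht, sub_self]
  have h1 : ∑ x : G, twist T (lin θ - lin θ') (lin η - lin η') x =
      ∑ x : N, twist T (lin θ - lin θ') (lin η - lin η') x := by
    rw [← Finset.sum_subtype (Finset.univ.filter (fun x => x ∈ N)) (p := fun x => x ∈ N) (by simp)
      (fun x => twist T (lin θ - lin θ') (lin η - lin η') x)]
    refine (Finset.sum_subset (Finset.filter_subset _ _) fun x _ hx => ?_).symm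
    refine h.twist_of_notMem _ hα fun hxN => hx ?_
    exact Finset.mem_filter.2 ⟨Finset.mem_univ _, hxN⟩
  rw [h1, Finset.sum_congr rfl fun x _ => h.twist_of_mem θ η η' _ x, ← Finset.mul_sum,
    inv_mul_cancel_left₀ Core.card_ne_zero_complex]
  refine Finset.sum_congr rfl fun x _ => ?_
  rw [Core.classInner_sub_left, Core.classInner_sub_right, Core.classInner_sub_right, inner_lin, inner_lin, inner_lin,
    inner_lin]
  ring

open scoped Classical in
theorem Tor.sum_reg (h : Tor T N B) [Fintype T] [Fintype N] {θ : T →* ℂˣ} (hreg : ∀ x : N, h.cj x θ = θ → (x : G) ∈ T) :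
    ∑ x : N, (if θ = h.cj x θ then (1 : ℂ) else 0) = Nat.card T := by
  rw [Finset.sum_boole]
  congr 1
  rw [← Fintype.card_subtype, ← Nat.card_eq_fintype_card]
  refine Nat.card_congr ⟨fun x => ⟨x.1, hreg x.1 x.2.symm⟩, fun t => ⟨⟨t, h.le t.2⟩, ?_⟩, fun x => rfl, fun t => rfl⟩
  ext s
  rw [h.cj_apply]
  congr 2
  apply Subtype.ext
  change (s : G) = (t : G)⁻¹ * s * t
  rw [mul_assoc, h.comm s s.2 t t.2, inv_mul_cancel_left]

open scoped Classical in
theorem sum_none [Fintype T] [Fintype N] (h : Tor T N B) {θ η : T →* ℂˣ} (hne : ∀ x : N, h.cj x η ≠ θ) :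
    ∑ x : N, (if θ = h.cj x η then (1 : ℂ) else 0) = 0 :=
  Finset.sum_eq_zero fun x _ => if_neg fun he => hne x he.symm

/-- multiplying the argument by a central element -/
theorem char_mul_central {χ : G → ℂ} (hχ : IsIrrCharacter G χ) {z : G} (hz : ∀ g, z * g = g * z) :
    ∃ ω : ℂ, ∀ g, χ (g * z) = ω * χ g := by
  obtain ⟨n, ρ, hρ, rfl⟩ := hχ
  obtain ⟨ω, hω⟩ := Central.exists_smul_of_comm ρ hρ (ρ z) (fun g => by
    rw [← map_mul, ← map_mul, hz])
  refine ⟨ω, fun g => ?_⟩
  change LinearMap.trace ℂ _ (ρ (g * z)) = ω * LinearMap.trace ℂ _ (ρ g)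
  rw [map_mul, hω, mul_smul_comm, mul_one, map_smul, smul_eq_mul]

/-- **exceptional characters** -/
theorem exists_chars (h : Tor T N B) [Fintype G] {k : ℕ} (i₀ : Fin k) (θ : Fin k → (T →* ℂˣ))
    (hB : ∀ i, ∀ t : T, (t : G) ∈ B → θ i t = 1) (hreg : ∀ i, ∀ x : N, h.cj x (θ i) = θ i → (x : G) ∈ T)
    (hdist : ∀ i j, i ≠ j → ∀ x : N, h.cj x (θ i) ≠ θ j) :
    ∃ μ : Fin k → G → ℂ, (∀ i, IsIrrCharacter G (μ i)) ∧ Function.Injective μ ∧
      (∀ i j g, (∀ x : G, x * g * x⁻¹ ∈ T → x * g * x⁻¹ ∈ B) → μ i g = μ j g) ∧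
      (2 ≤ k → ∀ z ∈ T, z ∈ B → (∀ g, z * g = g * z) → ∀ i, μ i z = μ i 1) := by
  classical
  have : Fintype T := Fintype.ofFinite T
  have : Fintype N := Fintype.ofFinite N
  have hT : (Nat.card T : ℂ) ≠ 0 := Core.card_ne_zero_complex
  have hdist' : ∀ i j, i ≠ j → ∀ x : N, h.cj x (θ j) ≠ θ i := fun i j hij => hdist j i (Ne.symm hij)
  set τ : Fin k → G → ℂ := fun i => indFun T (lin (θ i) - lin (θ i₀)) with hτ
  have hchar : ∀ i, IsCharacter G (indFun T (lin (θ i))) := fun i =>
    Cfsg.Agent.S0148.result T _ (Core.isIrr_isCharacter (H595.Central.isIrr_hom (θ i)))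
  have hsub : ∀ i, τ i = indFun T (lin (θ i)) - indFun T (lin (θ i₀)) := by
    intro i
    funext g
    rw [Pi.sub_apply, Core.indFun_apply, Core.indFun_apply, hτ]
    change indFun T (lin (θ i) - lin (θ i₀)) g = _
    rw [Core.indFun_apply, ← mul_sub, ← Finset.sum_sub_distrib]
    congr 1
    refine Finset.sum_congr rfl fun x _ => ?_
    by_cases hx : x⁻¹ * g * x ∈ T
    · rw [ext_apply_mem T _ _ hx, ext_apply_mem T _ _ hx, ext_apply_mem T _ _ hx]
      rfl
    · rw [ext_apply_not_mem T _ _ hx, ext_apply_not_mem T _ _ hx, ext_apply_not_mem T _ _ hx, sub_zero]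
  have hvan : ∀ i g, (∀ x : G, x * g * x⁻¹ ∈ T → x * g * x⁻¹ ∈ B) → τ i g = 0 := by
    intro i g hg
    change indFun T (lin (θ i) - lin (θ i₀)) g = 0
    rw [Core.indFun_apply, Finset.sum_eq_zero, mul_zero]
    intro x _
    by_cases hx : x⁻¹ * g * x ∈ T
    · rw [ext_apply_mem T _ _ hx, Pi.sub_apply]
      have hb := hg x⁻¹ (by rwa [inv_inv])
      rw [inv_inv] at hb
      unfold lin
      rw [hB i ⟨_, hx⟩ hb, hB i₀ ⟨_, hx⟩ hb, sub_self]
    · rw [ext_apply_not_mem T _ _ hx]
  have hgram : ∀ i j, i ≠ i₀ → j ≠ i₀ → classInner (τ i) (τ j) = if i = j then 2 else 1 := by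
    intro i j hi hj
    change classInner (indFun T (lin (θ i) - lin (θ i₀))) (indFun T (lin (θ j) - lin (θ i₀))) = _
    rw [h.inner_ind (fun t ht => by rw [hB i t ht, hB i₀ t ht]), Finset.sum_add_distrib, Finset.sum_sub_distrib,
      Finset.sum_sub_distrib, h.sum_reg (hreg i₀), sum_none h (hdist' i i₀ hi), sum_none h (hdist' i₀ j (Ne.symm hj))]
    by_cases hij : i = j
    · subst hij
      rw [h.sum_reg (hreg i), if_pos rfl]
      field_simp
      ring
    · rw [sum_none h (hdist' i j hij), if_neg hij]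
      field_simp
      ring
  obtain ⟨ε, hε, μ, hμ, hinj, hτμ⟩ := Cfsg.Agent.S0198.result k i₀ τ (by
      change indFun T (lin (θ i₀) - lin (θ i₀)) = 0
      funext g
      rw [sub_self, Core.indFun_apply, Finset.sum_eq_zero, mul_zero]
      · rfl
      · intro x _
        by_cases hx : x⁻¹ * g * x ∈ T
        · rw [ext_apply_mem T _ _ hx]; rfl
        · rw [ext_apply_not_mem T _ _ hx])
    (fun i => ⟨_, _, hchar i, hchar i₀, hsub i⟩) (fun i => hvan i 1 fun x _ => by
      rw [mul_one, mul_inv_cancel]; exact B.one_mem) hgram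
  have hε0 : ε ≠ 0 := by rcases hε with rfl | rfl <;> norm_num
  refine ⟨μ, hμ, hinj, fun i j g hg => ?_, fun hk z hzT hzB hz => ?_⟩
  · have key : ∀ i, μ i g = μ i₀ g := by
      intro i
      have h1 := hvan i g hg
      rw [hτμ i, Pi.smul_apply, Pi.sub_apply, smul_eq_mul] at h1
      rcases mul_eq_zero.1 h1 with h2 | h2
      · exact absurd h2 hε0
      · exact sub_eq_zero.1 h2
    rw [key i, key j]
  · choose ω hω using fun i => char_mul_central (hμ i) hz
    have hinv : ∀ i g, τ i (g * z) = τ i g := by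
      intro i g
      change indFun T (lin (θ i) - lin (θ i₀)) (g * z) = indFun T (lin (θ i) - lin (θ i₀)) g
      rw [Core.indFun_apply, Core.indFun_apply]
      congr 1
      refine Finset.sum_congr rfl fun x _ => ?_
      have e1 : x⁻¹ * (g * z) * x = x⁻¹ * g * x * z := by
        rw [mul_assoc, mul_assoc g z x, hz x]; group
      rw [e1]
      by_cases hx : x⁻¹ * g * x ∈ T
      · rw [ext_apply_mem T _ _ hx, ext_apply_mem T _ _ (T.mul_mem hx hzT), Pi.sub_apply, Pi.sub_apply]
        have e2 : ∀ i, θ i ⟨x⁻¹ * g * x * z, T.mul_mem hx hzT⟩ = θ i ⟨x⁻¹ * g * x, hx⟩ := by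
          intro i
          have e3 : (⟨x⁻¹ * g * x * z, T.mul_mem hx hzT⟩ : T) = ⟨x⁻¹ * g * x, hx⟩ * ⟨z, hzT⟩ := rfl
          rw [e3, map_mul, hB i ⟨z, hzT⟩ hzB, mul_one]
        unfold lin
        rw [e2, e2]
      · rw [ext_apply_not_mem T _ _ hx, ext_apply_not_mem T _ _ fun h1 => hx ?_]
        have := T.mul_mem h1 (T.inv_mem hzT)
        rwa [mul_inv_cancel_right] at this
    have hom : ∀ i, i ≠ i₀ → ω i = 1 ∧ ω i₀ = 1 := by
      intro i hi
      have e1 : (fun g => ω i * μ i g - ω i₀ * μ i₀ g) = μ i - μ i₀ := by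
        funext g
        have h1 := hinv i g
        rw [hτμ i, Pi.smul_apply, Pi.sub_apply, Pi.smul_apply, Pi.sub_apply, smul_eq_mul, smul_eq_mul, hω, hω] at h1
        exact mul_left_cancel₀ hε0 h1
      have e2 : (fun g => ω i * μ i g - ω i₀ * μ i₀ g) = ω i • μ i - ω i₀ • μ i₀ := rfl
      rw [e2] at e1
      have hii : classInner (μ i) (μ i₀) = 0 := Core.classInner_irr_ne (hμ i) (hμ i₀) fun he => hi (hinj he)
      have hii' : classInner (μ i₀) (μ i) = 0 := Core.classInner_irr_ne (hμ i₀) (hμ i) fun he => hi (hinj he.symm)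
      have a1 := congrArg (fun f => classInner f (μ i)) e1
      have a2 := congrArg (fun f => classInner f (μ i₀)) e1
      simp only [Core.classInner_sub_left, Core.classInner_smul_left, Core.classInner_irr_self (hμ i),
        Core.classInner_irr_self (hμ i₀), hii, hii', mul_one, mul_zero, sub_zero, zero_sub, neg_inj] at a1 a2
      exact ⟨a1, a2⟩
    have hom' : ∀ i, ω i = 1 := by
      intro i
      by_cases hi : i = i₀
      · subst hi
        obtain ⟨j, hj⟩ : ∃ j : Fin k, j ≠ i := by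
          have : Nontrivial (Fin k) := Fin.nontrivial_iff_two_le.2 hk
          exact exists_ne i
        exact (hom j hj).2
      · exact (hom i hi).1
    intro i
    have := hω i 1
    rwa [one_mul, hom' i, one_mul] at this

theorem Tor.cj_one (h : Tor T N B) (θ : T →* ℂˣ) : h.cj 1 θ = θ := by
  ext t
  rw [h.cj_apply]
  congr 2
  apply Subtype.ext
  change (1 : G)⁻¹ * t * 1 = t
  group

theorem Tor.cj_mul (h : Tor T N B) (x y : N) (θ : T →* ℂˣ) : h.cj (x * y) θ = h.cj x (h.cj y θ) := by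
  ext t
  rw [h.cj_apply, h.cj_apply, h.cj_apply]
  congr 2
  apply Subtype.ext
  change ((x : G) * y)⁻¹ * t * (x * y) = (y : G)⁻¹ * ((x : G)⁻¹ * t * x) * y
  group

theorem Tor.cj_of_mem (h : Tor T N B) {x : N} (hx : (x : G) ∈ T) (θ : T →* ℂˣ) : h.cj x θ = θ := by
  ext t
  rw [h.cj_apply]
  congr 2
  apply Subtype.ext
  change (x : G)⁻¹ * t * x = t
  rw [mul_assoc, h.comm t t.2 x hx, inv_mul_cancel_left]

theorem Tor.cj_congr (h : Tor T N B) {x y : N} (hxy : (x : G)⁻¹ * y ∈ T) (θ : T →* ℂˣ) : h.cj x θ = h.cj y θ := by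
  have h1 : y = x * (x⁻¹ * y) := by group
  rw [h1, h.cj_mul, h.cj_of_mem (x := x⁻¹ * y) hxy]

/-- **the family of exceptional characters** -/
theorem exists_family (h : Tor T N B) [Fintype G] {C : Type*} [CommGroup C] [Finite C] [IsCyclic C] (π : T →* C)
    (hπ : Function.Surjective π) (hB : ∀ t : T, (t : G) ∈ B → π t = 1) {e : ℕ} (he : 0 < e)
    (hact : ∀ x : N, (x : G) ∉ T → ∃ m : ℕ, (∀ t : T, π ⟨(x : G)⁻¹ * t * x, h.norm' x.2 t.2⟩ = π t ^ m) ∧
      1 ≤ m ∧ Nat.gcd (m - 1) (Nat.card C) ∣ e)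
    {κ : Type*} [Fintype κ] (f : N → κ) (hf : ∀ x y : N, f x = f y → (x : G)⁻¹ * y ∈ T) :
    ∃ (k : ℕ) (μ : Fin k → G → ℂ), Nat.card C ≤ Fintype.card κ * k + e ∧ (∀ i, IsIrrCharacter G (μ i)) ∧
      Function.Injective μ ∧ (∀ i j g, (∀ x : G, x * g * x⁻¹ ∈ T → x * g * x⁻¹ ∈ B) → μ i g = μ j g) ∧
      (2 ≤ k → ∀ z ∈ T, z ∈ B → (∀ g, z * g = g * z) → ∀ i, μ i z = μ i 1) := by
  classical
  obtain ⟨dual⟩ := CommGroup.monoidHom_mulEquiv_of_hasEnoughRootsOfUnity C ℂ
  have : Finite (C →* ℂˣ) := Finite.of_equiv _ dual.symm.toEquiv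
  let _ : Fintype (C →* ℂˣ) := Fintype.ofFinite _
  have hcard : Fintype.card (C →* ℂˣ) = Nat.card C := by
    rw [← Nat.card_eq_fintype_card]
    exact Nat.card_congr dual.toEquiv
  let R : Finset (C →* ℂˣ) := Finset.univ.filter fun η => ¬ ∀ c, η c ^ e = 1
  have hR : Nat.card C ≤ R.card + e := by
    have h1 : R.card + (Finset.univ.filter fun η : C →* ℂˣ => ¬ ¬ ∀ c, η c ^ e = 1).card = Nat.card C := by
      rw [← hcard, ← Finset.card_univ]
      exact Finset.card_filter_add_card_filter_not (s := (Finset.univ : Finset (C →* ℂˣ))) _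
    have h2 : (Finset.univ.filter fun η : C →* ℂˣ => ¬ ¬ ∀ c, η c ^ e = 1).card ≤ e := by
      obtain ⟨g, hg⟩ := IsCyclic.exists_generator (α := C)
      have : NeZero e := ⟨he.ne'⟩
      let _ : Fintype (rootsOfUnity e ℂ) := Fintype.ofFinite _
      have h3 : (Finset.univ.filter fun η : C →* ℂˣ => ¬ ¬ ∀ c, η c ^ e = 1).card ≤
          Nat.card (rootsOfUnity e ℂ) := by
        rw [← Fintype.card_coe, Nat.card_eq_fintype_card]
        refine Fintype.card_le_of_injective (fun η => ⟨η.1 g, ?_⟩) fun η η' hη => ?_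
        · have h4 := (Finset.mem_filter.1 η.2).2
          rw [not_not] at h4
          exact h4 g
        · apply Subtype.ext
          have h4 : η.1 g = η'.1 g := congrArg Subtype.val hη
          refine MonoidHom.ext fun c => ?_
          obtain ⟨i, rfl⟩ := Subgroup.mem_zpowers_iff.1 (hg c)
          rw [map_zpow, map_zpow, h4]
      exact h3.trans (card_rootsOfUnity ℂ e)
    omega
  let orb : (C →* ℂˣ) → Set (T →* ℂˣ) := fun η => {θ | ∃ x : N, h.cj x (η.comp π) = θ}
  have hfib : R.card ≤ Fintype.card κ * (R.image orb).card := by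
    refine Finset.card_le_mul_card_image R _ fun O hO => ?_
    obtain ⟨η, hη, rfl⟩ := Finset.mem_image.1 hO
    have h1 : ∀ η' ∈ R.filter (fun x => orb x = orb η), ∃ x : N, h.cj x (η.comp π) = η'.comp π := by
      intro η' hη'
      have h2 : η'.comp π ∈ orb η' := ⟨1, h.cj_one _⟩
      rw [(Finset.mem_filter.1 hη').2] at h2
      exact h2
    choose! x hx using h1
    refine Finset.card_le_card_of_injOn (fun η' => f (x η')) (fun _ _ => Finset.mem_univ _) ?_ |>.trans_eq
      Finset.card_univ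
    intro a ha b hb hab
    have h2 := h.cj_congr (hf _ _ hab) (η.comp π)
    rw [hx a ha, hx b hb] at h2
    refine MonoidHom.ext fun c => ?_
    obtain ⟨t, rfl⟩ := hπ c
    exact DFunLike.congr_fun h2 t
  let k := (R.image orb).card
  let en : Fin k ≃ R.image orb := (Finset.equivFin _).symm
  have hrep : ∀ i : Fin k, ∃ η ∈ R, orb η = (en i).1 := fun i => by
    obtain ⟨η, hη, hη'⟩ := Finset.mem_image.1 (en i).2
    exact ⟨η, hη, hη'⟩
  choose η hηR hηo using hrep
  have hk : Nat.card C ≤ Fintype.card κ * k + e := hR.trans (Nat.add_le_add_right hfib e)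
  rcases Nat.eq_zero_or_pos k with hk0 | hk0
  · refine ⟨0, Fin.elim0, by rw [hk0] at hk; exact hk, fun i => i.elim0, fun i => i.elim0, fun i => i.elim0,
      fun h2 => by omega⟩
  obtain ⟨μ, h1, h2, h3, h4⟩ := exists_chars h (⟨0, hk0⟩ : Fin k) (fun i => (η i).comp π)
    (fun i t ht => by rw [MonoidHom.comp_apply, hB t ht, map_one])
    (fun i x hx => by
      by_contra hxT
      obtain ⟨m, hm, hm1, hm2⟩ := hact x hxT
      apply (Finset.mem_filter.1 (hηR i)).2
      intro c
      have h5 : η i c ^ m = η i c := by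
        obtain ⟨t, rfl⟩ := hπ c
        have h6 := DFunLike.congr_fun hx t
        rw [h.cj_apply, MonoidHom.comp_apply, MonoidHom.comp_apply, hm, map_pow] at h6
        exact h6
      have h6 : η i c ^ (m - 1) = 1 := by
        have h7 : η i c ^ (m - 1) * η i c = 1 * η i c := by
          rw [one_mul, ← pow_succ, Nat.sub_add_cancel hm1, h5]
        exact mul_right_cancel h7
      have h7 : η i c ^ Nat.card C = 1 := by
        rw [← map_pow, pow_card_eq_one', map_one]
      have h8 : orderOf (η i c) ∣ e :=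
        (Nat.dvd_gcd (orderOf_dvd_of_pow_eq_one h6) (orderOf_dvd_of_pow_eq_one h7)).trans hm2
      exact orderOf_dvd_iff_pow_eq_one.1 h8)
    (fun i j hij x hx => by
      apply hij
      apply en.injective
      apply Subtype.ext
      rw [← hηo i, ← hηo j]
      ext θ
      constructor
      · rintro ⟨y, rfl⟩
        refine ⟨y * x⁻¹, ?_⟩
        rw [← hx, ← h.cj_mul, inv_mul_cancel_right]
      · rintro ⟨y, rfl⟩
        exact ⟨y * x, by rw [h.cj_mul, hx]⟩)
  exact ⟨k, μ, hk, h1, h2, h3, h4⟩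

end Cfsg.Agent.H113.Cusp.Exc
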