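import Cfsg.Agent.H113.Cusp.Tool
import Cfsg.Agent.H113.Two.HcOne
import Cfsg.Agent.H477.HC.Unip

/-!
# Relative positions of totally singular subspaces in Witt index two (helper113)

* `exists_unip`, `rad_trans` : the radical of the stabiliser of `W₀` is transitive on the opposite subspaces;
* `dle_point`, `dle_line` : at most two fixed vectors for `rad W' ∩ P`, `W'` adjacent to `W₀`.
-/

set_option autoImplicit false
set_option linter.unusedSectionVars false

open scoped ComplexConjugate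
open Cfsg

namespace Cfsg.Agent.H113.Cusp.Flag

open Module Cfsg.Agent.H53.HC Cfsg.Agent.H477.HC Cfsg.Agent.H477.HC.CForm Cfsg.Agent.H113.Two.HcOne
  Cfsg.Agent.H113.Cusp.Tool

universe u v w

variable {K : Type u} [Field K] {V : Type v} [AddCommGroup V] [Module K V] {F : CForm K V}

section unip

variable {k : ℕ} {e f : Fin k → V}

theorem fe_of (hef : ∀ i l, F.B (e i) (f l) = if i = l then 1 else 0) (i l : Fin k) :
    F.B (f i) (e l) = if i = l then F.ε else 0 := by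
  rw [F.B_symm, hef]
  by_cases hij : i = l
  · rw [if_pos hij, if_pos hij.symm, map_one, mul_one]
  · rw [if_neg hij, if_neg (Ne.symm hij), map_zero, mul_zero]

/-- **the unipotent element carrying `f` to the opposite frame `y`** (helper477's `Frm.exists_unip` without complement) -/
theorem exists_unip [FiniteDimensional K V] (hee : ∀ i l, F.B (e i) (e l) = 0) (hff : ∀ i l, F.B (f i) (f l) = 0)
    (hef : ∀ i l, F.B (e i) (f l) = if i = l then 1 else 0) (hQe : ∀ i, F.Q (e i) = 0) (hQf : ∀ i, F.Q (f i) = 0)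
    {y : Fin k → V}
    (hey : ∀ i l, F.B (e i) (y l) = if i = l then 1 else 0) (hyy : ∀ i l, F.B (y i) (y l) = 0)
    (hQy : ∀ i, F.Q (y i) = 0) :
    ∃ u : F.iso, (∀ i, (u : V ≃ₗ[K] V) (e i) = e i) ∧ (∀ i, (u : V ≃ₗ[K] V) (f i) = y i) ∧
      ∀ v, (∀ i, F.B v (e i) = 0) → (u : V ≃ₗ[K] V) v = v - ∑ i, F.B v (y i - f i) • e i := by
  have hε := F.ε_ne
  have hfe := fe_of hef
  let P : V →ₗ[K] V := cmb f F e F.ε⁻¹
  let Y : V →ₗ[K] V := cmb y F e F.ε⁻¹
  let r : V →ₗ[K] V := LinearMap.id - P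
  let H : V →ₗ[K] V := (cmb e F (fun i => y i - f i) 1).comp r
  have hP : ∀ v, P v = ∑ i, (F.ε⁻¹ * F.B v (e i)) • f i := cmb_apply _ _ _
  have hY : ∀ v, Y v = ∑ i, (F.ε⁻¹ * F.B v (e i)) • y i := cmb_apply _ _ _
  have hH : ∀ v, H v = ∑ i, (1 * F.B (r v) (y i - f i)) • e i := fun v => cmb_apply _ _ _ _
  have hr : ∀ v, r v = v - P v := fun v => rfl
  have tsf := F.TS_span hff hQf
  have tse := F.TS_span hee hQe
  have tsy := F.TS_span hyy hQy
  have Pm : ∀ v, P v ∈ Submodule.span K (Set.range f) := fun v => cmb_mem _ _ _ _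
  have Ym : ∀ v, Y v ∈ Submodule.span K (Set.range y) := fun v => cmb_mem _ _ _ _
  have Hm : ∀ v, H v ∈ Submodule.span K (Set.range e) := fun v => cmb_mem _ _ _ _
  have re : ∀ v l, F.B (r v) (e l) = 0 := by
    intro v l
    rw [hr, F.B_sub_left, hP, B_sum_left]
    simp only [hfe]
    rw [sum_deltaε (fun i => F.ε⁻¹ * F.B v (e i)) F.ε l]
    field_simp
    ring
  have rH : ∀ u v, F.B (r u) (H v) = 0 := by
    intro u v
    rw [hH, B_sum_right]
    exact Finset.sum_eq_zero fun i _ => by rw [re, mul_zero]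
  have Hy : ∀ u m, F.B (H u) (y m) = F.B (r u) (y m - f m) := by
    intro u m
    rw [hH, B_sum_left]
    simp only [hey]
    rw [sum_delta (fun i => 1 * F.B (r u) (y i - f i)) m, one_mul]
  have key : ∀ u v, F.B (r u - H u) (Y v) = F.B (r u) (P v) := by
    intro u v
    rw [hY, hP, B_sum_right, B_sum_right]
    refine Finset.sum_congr rfl fun i _ => ?_
    rw [F.B_sub_left, Hy, F.B_sub_right]
    ring
  have key' : ∀ u v, F.B (Y v) (r u - H u) = F.B (P v) (r u) := by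
    intro u v
    rw [F.B_symm, key, F.B_symm (P v)]
  let g : V →ₗ[K] V := r - H + Y
  have hg : ∀ v, g v = (r v - H v) + Y v := fun v => rfl
  have hv : ∀ v, v = r v + P v := fun v => by rw [hr]; abel
  have HH : ∀ u v, F.B (H u) (H v) = 0 := fun u v => tse.2 _ (Hm u) _ (Hm v)
  have YY : ∀ u v, F.B (Y u) (Y v) = 0 := fun u v => tsy.2 _ (Ym u) _ (Ym v)
  have PP : ∀ u v, F.B (P u) (P v) = 0 := fun u v => tsf.2 _ (Pm u) _ (Pm v)
  have Hr : ∀ u v, F.B (H u) (r v) = 0 := fun u v => F.B_eq_zero (rH v u)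
  obtain ⟨u, hu⟩ := F.exists_iso g (fun x z => by
    rw [hg, hg, F.B_add_left, F.B_add_right, F.B_add_right, key, key', YY, F.B_sub_left, F.B_sub_right, F.B_sub_right,
      HH, rH, Hr]
    conv_rhs => rw [hv x, hv z]
    rw [F.B_add_left, F.B_add_right, F.B_add_right, PP]
    ring) (fun v => by
    rw [hg, F.Q_add, key, tsy.1 _ (Ym v), sub_eq_add_neg, F.Q_add, F.B_neg_right, rH, neg_zero, F.T_zero]
    have : -H v = (-1 : K) • H v := by rw [neg_one_smul]
    rw [this, F.Q_smul, tse.1 _ (Hm v)]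
    conv_rhs => rw [hv v, F.Q_add, tsf.1 _ (Pm v)]
    ring)
  have P0 : ∀ v, (∀ i, F.B v (e i) = 0) → P v = 0 := by
    intro v hv
    rw [hP]
    exact Finset.sum_eq_zero fun i _ => by rw [hv, mul_zero, zero_smul]
  have Y0 : ∀ v, (∀ i, F.B v (e i) = 0) → Y v = 0 := by
    intro v hv
    rw [hY]
    exact Finset.sum_eq_zero fun i _ => by rw [hv, mul_zero, zero_smul]
  have u1 : ∀ v, (∀ i, F.B v (e i) = 0) → (u : V ≃ₗ[K] V) v = v - ∑ i, F.B v (y i - f i) • e i := by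
    intro v hv
    rw [hu, hg, Y0 v hv, hH, hr, P0 v hv, sub_zero, add_zero]
    congr 1
    exact Finset.sum_congr rfl fun i _ => by rw [one_mul]
  refine ⟨u, fun i => ?_, fun l => ?_, u1⟩
  · rw [u1 _ (hee i), Finset.sum_eq_zero, sub_zero]
    intro l _
    rw [F.B_sub_right, hey, hef, sub_self, zero_smul]
  · have rl : r (f l) = 0 := by
      rw [hr, hP, Finset.sum_eq_single l]
      · rw [hfe, if_pos rfl, inv_mul_cancel₀ hε, one_smul, sub_self]
      · intro i _ hi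
        rw [hfe, if_neg (Ne.symm hi), mul_zero, zero_smul]
      · intro h; exact absurd (Finset.mem_univ _) h
    rw [hu, hg, hH, rl, Finset.sum_eq_zero (fun i _ => by rw [F.B_zero_left, mul_zero, zero_smul]), sub_zero, zero_add,
      hY, Finset.sum_eq_single l]
    · rw [hfe, if_pos rfl, inv_mul_cancel₀ hε, one_smul]
    · intro i _ hi
      rw [hfe, if_neg (Ne.symm hi), mul_zero, zero_smul]
    · intro h; exact absurd (Finset.mem_univ _) h

/-- `k = 1` -/
theorem exists_unip_one [FiniteDimensional K V] {e f y : V} (he : F.Sing e) (hf : F.Sing f) (hef : F.B e f = 1)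
    (hy : F.Sing y) (hey : F.B e y = 1) :
    ∃ u : F.iso, (u : V ≃ₗ[K] V) e = e ∧ (u : V ≃ₗ[K] V) f = y ∧
      ∀ v, F.B v e = 0 → (u : V ≃ₗ[K] V) v = v - F.B v (y - f) • e := by
  obtain ⟨u, h1, h2, h3⟩ := exists_unip (F := F) (k := 1) (e := fun _ => e) (f := fun _ => f) (y := fun _ => y)
    (fun _ _ => he.2) (fun _ _ => hf.2) (fun i l => by rw [hef, if_pos (Subsingleton.elim i l)]) (fun _ => he.1)
    (fun _ => hf.1) (fun i l => by rw [hey, if_pos (Subsingleton.elim i l)]) (fun _ _ => hy.2) (fun _ => hy.1)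
  refine ⟨u, h1 0, h2 0, fun v hv => ?_⟩
  rw [h3 v fun _ => hv, Fin.sum_univ_one]

end unip

/-- the stabiliser of a subspace -/
abbrev St (F : CForm K V) (W : Submodule K V) : Subgroup F.iso := stabW F.iso.subtype W

variable [FiniteDimensional K V]

theorem mem_St {W : Submodule K V} {g : F.iso} : g ∈ St F W ↔ ∀ w ∈ W, (g : V ≃ₗ[K] V) w ∈ W := by
  constructor
  · intro h w hw
    have h1 : W.map (F.iso.subtype g : V →ₗ[K] V) = W := h
    have : F.iso.subtype g w ∈ W.map (F.iso.subtype g : V →ₗ[K] V) := ⟨w, hw, rfl⟩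
    rwa [h1] at this
  · intro h
    exact map_eq_of_le F.iso.subtype h

theorem map_St {W : Submodule K V} {g : F.iso} (h : g ∈ St F W) : W.map (F.iso.subtype g : V →ₗ[K] V) = W := h

theorem inv_ap (g : F.iso) (v : V) : ((g⁻¹ : F.iso) : V ≃ₗ[K] V) ((g : V ≃ₗ[K] V) v) = v :=
  (g : V ≃ₗ[K] V).symm_apply_apply v

theorem ap_inv (g : F.iso) (v : V) : (g : V ≃ₗ[K] V) (((g⁻¹ : F.iso) : V ≃ₗ[K] V) v) = v :=
  (g : V ≃ₗ[K] V).apply_symm_apply v

theorem mul_ap (g h : F.iso) (v : V) : ((g * h : F.iso) : V ≃ₗ[K] V) v = (g : V ≃ₗ[K] V) ((h : V ≃ₗ[K] V) v) := rfl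

theorem mem_perp_ap {W : Submodule K V} {g : F.iso} (hg : g ∈ St F W) {v : V} (hv : v ∈ F.perp W) :
    (g : V ≃ₗ[K] V) v ∈ F.perp W := by
  intro w hw
  have h1 : ((g⁻¹ : F.iso) : V ≃ₗ[K] V) w ∈ W := mem_St.1 (Subgroup.inv_mem _ hg) w hw
  rw [← ap_inv g w, F.iso_B]
  exact hv _ h1

theorem mem_rad {W : Submodule K V} (hW : F.TS W) {g : F.iso} : g ∈ rad F W ↔
    (∀ w ∈ W, (g : V ≃ₗ[K] V) w = w) ∧ ∀ v ∈ F.perp W, (g : V ≃ₗ[K] V) v - v ∈ W :=
  ⟨fun h => ⟨h.1, h.2.2⟩, fun h => ⟨h.1, F.mem_TT_of hW h.2⟩⟩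

theorem rad_le {W : Submodule K V} : rad F W ≤ St F W := fun _ hg => fixP_le hg.1

theorem rad_conj {W : Submodule K V} (hW : F.TS W) {g : F.iso} (hg : g ∈ St F W) {u : F.iso} (hu : u ∈ rad F W) :
    g * u * g⁻¹ ∈ rad F W := by
  rw [mem_rad hW] at hu ⊢
  have hg' := Subgroup.inv_mem _ hg
  refine ⟨fun w hw => ?_, fun v hv => ?_⟩
  · rw [mul_ap, mul_ap, hu.1 _ (mem_St.1 hg' w hw), ap_inv]
  · have h1 := hu.2 _ (mem_perp_ap hg' hv)
    have h2 := mem_St.1 hg _ h1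
    rw [map_sub, ap_inv] at h2
    exact h2

/-- conjugation moves the radical -/
theorem mem_rad_map {W : Submodule K V} (hW : F.TS W) {g u : F.iso} :
    g⁻¹ * u * g ∈ rad F W ↔ u ∈ rad F (W.map (F.iso.subtype g : V →ₗ[K] V)) := by
  rw [mem_rad hW, mem_rad (W := W.map (F.iso.subtype g : V →ₗ[K] V)) (hW.map g)]
  constructor
  · rintro ⟨h1, h2⟩
    refine ⟨?_, fun v hv => ?_⟩
    · rintro _ ⟨w, hw, rfl⟩
      have := congrArg (fun x => (g : V ≃ₗ[K] V) x) (h1 w hw)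
      simp only [mul_ap, ap_inv] at this
      exact this
    · have hv' : ((g⁻¹ : F.iso) : V ≃ₗ[K] V) v ∈ F.perp W := by
        intro w hw
        rw [← F.iso_B g, ap_inv]
        exact hv _ ⟨w, hw, rfl⟩
      have := h2 _ hv'
      rw [mul_ap, mul_ap, ap_inv] at this
      refine ⟨_, this, ?_⟩
      change (g : V ≃ₗ[K] V) _ = _
      rw [map_sub, ap_inv, ap_inv]
  · rintro ⟨h1, h2⟩
    refine ⟨fun w hw => ?_, fun v hv => ?_⟩
    · rw [mul_ap, mul_ap]
      have : (u : V ≃ₗ[K] V) ((g : V ≃ₗ[K] V) w) = (g : V ≃ₗ[K] V) w := h1 _ ⟨w, hw, rfl⟩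
      rw [this, inv_ap]
    · have hv' : (g : V ≃ₗ[K] V) v ∈ F.perp (W.map (F.iso.subtype g : V →ₗ[K] V)) := by
        rintro _ ⟨w, hw, rfl⟩
        exact (F.iso_B g v w).trans (hv w hw)
      obtain ⟨w, hw, hw'⟩ := h2 _ hv'
      rw [mul_ap, mul_ap]
      have h3 : ((g⁻¹ : F.iso) : V ≃ₗ[K] V) ((u : V ≃ₗ[K] V) ((g : V ≃ₗ[K] V) v)) - v = w := by
        have h4 : (u : V ≃ₗ[K] V) ((g : V ≃ₗ[K] V) v) = (g : V ≃ₗ[K] V) w + (g : V ≃ₗ[K] V) v := by
          rw [show (g : V ≃ₗ[K] V) w = _ from hw']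
          abel
        rw [h4, map_add, inv_ap, inv_ap]
        abel
      rw [h3]; exact hw

/-- **the radical is transitive on the opposite subspaces** -/
theorem rad_trans {k : ℕ} {W₀ W' W'' : Submodule K V} (hW₀ : W₀ ∈ F.Om k) (hW' : W' ∈ F.Om k) (hW'' : W'' ∈ F.Om k)
    (h' : W₀ ⊓ F.perp W' = ⊥) (h'' : W₀ ⊓ F.perp W'' = ⊥) :
    ∃ u ∈ rad F W₀, W'.map (F.iso.subtype u : V →ₗ[K] V) = W'' := by
  classical
  let b : Basis (Fin k) K W₀ := finBasisOfFinrankEq K W₀ hW₀.2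
  have hb : ∀ i l, b.coord l (b i) = if i = l then 1 else 0 := by
    intro i l
    rw [Basis.coord_apply, Basis.repr_self, Finsupp.single_apply]
  have key : ∀ W₁ ∈ F.Om k, W₀ ⊓ F.perp W₁ = ⊥ → ∃ f : Fin k → V, (∀ i, f i ∈ W₁) ∧
      (∀ i l, F.B (b i) (f l) = if i = l then 1 else 0) ∧ Submodule.span K (Set.range f) = W₁ := by
    intro W₁ hW₁ h1
    have h2 : ∀ l, ∃ z ∈ W₁, ∀ w : W₀, b.coord l w = F.B w z := fun l =>
      F.exists_pair W₀ W₁ (b.coord l) fun w hw => by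
        have h3 : (w : V) ∈ W₀ ⊓ F.perp W₁ := ⟨w.2, hw⟩
        rw [h1] at h3
        have h4 : w = 0 := Subtype.ext ((Submodule.mem_bot K).1 h3)
        rw [h4, map_zero]
    choose f hf hf' using h2
    have h3 : ∀ i l, F.B (b i) (f l) = if i = l then 1 else 0 := fun i l => by rw [← hf', hb]
    refine ⟨f, hf, h3, ?_⟩
    have hli : LinearIndependent K f := by
      rw [Fintype.linearIndependent_iff]
      intro c hc i
      have h4 : F.B (b i) (∑ l, c l • f l) = F.σ (c i) := by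
        rw [B_sum_right, Finset.sum_eq_single i]
        · rw [h3, if_pos rfl, mul_one]
        · intro l _ hl
          rw [h3, if_neg (Ne.symm hl), mul_zero]
        · intro h; exact absurd (Finset.mem_univ _) h
      rw [hc, F.B_zero_right] at h4
      exact (map_eq_zero F.σ).1 h4.symm
    apply Submodule.eq_of_le_of_finrank_eq
    · rw [Submodule.span_le]
      rintro _ ⟨i, rfl⟩
      exact hf i
    · rw [finrank_span_eq_card hli, Fintype.card_fin, hW₁.2]
  obtain ⟨f, hf, hef, hsf⟩ := key W' hW' h'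
  obtain ⟨y, hy, hey, hsy⟩ := key W'' hW'' h''
  obtain ⟨u, h1, h2, h3⟩ := exists_unip (F := F) (e := fun i => (b i : V)) (f := f) (y := y)
    (fun i l => hW₀.1.2 _ (b i).2 _ (b l).2) (fun i l => hW'.1.2 _ (hf i) _ (hf l)) hef
    (fun i => hW₀.1.1 _ (b i).2) (fun i => hW'.1.1 _ (hf i)) hey (fun i l => hW''.1.2 _ (hy i) _ (hy l))
    (fun i => hW''.1.1 _ (hy i))
  refine ⟨u, (mem_rad hW₀.1).2 ⟨fun w hw => ?_, fun v hv => ?_⟩, ?_⟩
  · have h4 : w = ∑ i, b.repr ⟨w, hw⟩ i • (b i : V) := by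
      have := congrArg Subtype.val (b.sum_repr ⟨w, hw⟩)
      simp only [Submodule.coe_sum, Submodule.coe_smul] at this
      exact this.symm
    rw [h4, map_sum]
    exact Finset.sum_congr rfl fun i _ => by rw [map_smul, h1]
  · rw [h3 v fun i => hv _ (b i).2]
    have : v - ∑ i, F.B v (y i - f i) • (b i : V) - v = -∑ i, F.B v (y i - f i) • (b i : V) := by abel
    rw [this]
    exact W₀.neg_mem (W₀.sum_mem fun i _ => W₀.smul_mem _ (b i).2)
  · rw [← hsf, ← hsy, Submodule.map_span, ← Set.range_comp]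
    congr 2
    funext i
    exact h2 i

end Cfsg.Agent.H113.Cusp.Flag
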