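import Mathlib
import Cfsg.Agent.H113.Cusp.TorPi
import Cfsg.Agent.H113.Cusp.Reg
import Cfsg.Agent.H113.Two.PsuChars
import Cfsg.Agent.S0277

/-!
# `PSU_4(q)`, `PSU_5(q)`, `p ∥ q - 1`: an irreducible character of degree divisible by `p²` (helper113)

`hyp_four` : cuspidal characters of `GU_n(q)`, `n = 4, 5`, of `p`-defect zero for the odd primes `p ∣ q - 1`
(`(n, q) ≠ (4, 4)`).
-/

set_option autoImplicit false
set_option linter.unusedSectionVars false
set_option linter.style.haveILetI false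

open scoped ComplexConjugate
open Cfsg

namespace Cfsg.Agent.H113.Cusp.Torus

open Module Cfsg.Agent.H477.HC Cfsg.Agent.H477.HC.CForm Cfsg.Agent.H749 Cfsg.Agent.H113.Cusp.Exc
  Cfsg.Agent.H113.Cusp.Tool Cfsg.Agent.H113.Cusp.Flag Cfsg.Agent.H113.Cusp.Asm Cfsg.Agent.H113.Cusp.Reg

universe u

section

variable {K : Type u} [Field K] {L : Type} [Field L] [Algebra K L]

variable [Finite K] {q : ℕ} {hq : Nat.card K = q ^ 2} {m d n : ℕ} (D : Dat K q hq L m d n)

include D in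
theorem Dat.hn : n = m + d := by
  have := D.fd
  have h := D.j.finrank_eq
  rw [finrank_prod, D.hfr, finrank_fin_fun, finrank_fin_fun] at h
  exact h

/-- elements of `T ∖ B` stabilise no totally singular subspace -/
theorem Dat.not_stab {W : Submodule K (Fin n → K)} (hW : (hermF K hq n).TS W) {t : G K hq n} (ht : t ∈ D.T)
    (htB : t ∉ D.B) (hst : ∀ w ∈ W, (t : (Fin n → K) ≃ₗ[K] (Fin n → K)) w ∈ W) : W = ⊥ := by
  have := D.fd
  have := D.finL
  obtain ⟨u, c, hu⟩ := ht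
  have huK := D.not_mem_B hu htB
  have hfr : (finrank K L).Prime := by rw [D.hfr]; exact D.hm
  let f : (Fin n → K) →ₗ[K] L := LinearMap.fst K L (Fin d → K) ∘ₗ (D.j : (Fin n → K) →ₗ[K] L × (Fin d → K))
  have hf : ∀ v, f v = (D.j v).1 := fun v => rfl
  have h1 : ∀ z ∈ W.map f, (u : L) * z ∈ W.map f := by
    rintro _ ⟨w, hw, rfl⟩
    refine ⟨_, hst w hw, ?_⟩
    rw [hf, hu w]
    rfl
  have h2 : ∀ P : Polynomial K, ∀ z ∈ W.map f, Polynomial.aeval (u : L) P * z ∈ W.map f := by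
    have hk : ∀ k : ℕ, ∀ z ∈ W.map f, (u : L) ^ k * z ∈ W.map f := by
      intro k
      induction k with
      | zero => intro z hz; rwa [pow_zero, one_mul]
      | succ k ih => intro z hz; rw [pow_succ, mul_assoc]; exact ih _ (h1 z hz)
    intro P z hz
    induction P using Polynomial.induction_on' with
    | add P Q hP hQ => rw [map_add, add_mul]; exact add_mem hP hQ
    | monomial k a =>
      rw [Polynomial.aeval_monomial, mul_assoc, ← Algebra.smul_def]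
      exact Submodule.smul_mem _ _ (hk k z hz)
  have h3 : ∀ w ∈ W, f w = 0 := by
    intro w hw
    by_contra h0
    have h4 : W.map f = ⊤ := by
      rw [eq_top_iff]
      intro a _
      obtain ⟨P, hP⟩ := exists_aeval hfr huK (a * (f w)⁻¹)
      have h5 := h2 P (f w) ⟨w, hw, rfl⟩
      rwa [hP, inv_mul_cancel_right₀ h0] at h5
    have h5 : finrank K (W.map f) ≤ finrank K W := Submodule.finrank_map_le _ _
    rw [h4, finrank_top, D.hfr] at h5
    have h6 := H749.Two.two_finrank_le hW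
    rw [finrank_fin_fun] at h6
    have h7 := D.hm.two_le
    have h8 := D.hd
    have h9 := D.hn
    omega
  rw [eq_bot_iff]
  intro w hw
  rw [Submodule.mem_bot]
  apply D.j.injective
  rw [map_zero]
  refine Prod.ext (h3 w hw) ?_
  have h4 : hermForm n K q w w = 0 := hW.1 w hw
  rw [← D.hj] at h4
  unfold bf at h4
  have h5 : (D.j w).1 = 0 := h3 w hw
  rw [h5, zero_mul, map_zero, zero_add] at h4
  obtain hd0 | hd1 : d = 0 ∨ d = 1 := by have := D.hd; omega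
  · subst hd0
    exact Subsingleton.elim _ _
  · subst hd1
    ext i
    obtain rfl : i = 0 := Subsingleton.elim _ _
    have h6 : (D.j w).2 0 * (D.j w).2 0 ^ q = 0 := by
      simpa [hermForm] using h4
    rcases mul_eq_zero.1 h6 with h7 | h7
    · exact h7
    · exact eq_zero_of_pow_eq_zero h7

/-- scalars -/
theorem Dat.scal {z : G K hq n} {a : Kˣ} (hz : ∀ v, (z : (Fin n → K) ≃ₗ[K] (Fin n → K)) v = (a : K) • v) :
    z ∈ D.T ∧ z ∈ D.B ∧ ∀ g, z * g = g * z := by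
  have h1 : D.Sem z 1 (Units.map (algebraMap K L : K →* L) a) a := by
    intro v
    rw [hz, map_smul]
    refine Prod.ext ?_ rfl
    exact Algebra.smul_def _ _
  refine ⟨⟨_, _, h1⟩, ⟨_, _, h1⟩, fun g => ?_⟩
  apply Subtype.ext
  ext1 v
  change (z : (Fin n → K) ≃ₗ[K] (Fin n → K)) ((g : (Fin n → K) ≃ₗ[K] (Fin n → K)) v) =
    (g : (Fin n → K) ≃ₗ[K] (Fin n → K)) ((z : (Fin n → K) ≃ₗ[K] (Fin n → K)) v)
  rw [hz, hz, map_smul]

end

variable {K : Type u} [Field K] [Fintype K] {q : ℕ}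

theorem arith_three {q M : ℕ} (hM : M * (q + 1) = q ^ 3 + 1) (g : ℕ) (h1 : g ∣ q ^ 2 - 1) (h2 : g ∣ M) (hq : 1 < q) : g ∣ 3 := by
  have h3 : (g : ℤ) ∣ (q : ℤ) ^ 2 - 1 := by
    have := Int.natCast_dvd_natCast.2 h1
    rwa [Nat.cast_sub (Nat.one_le_pow _ _ (by omega)), Nat.cast_pow, Nat.cast_one] at this
  have h4 : (g : ℤ) ∣ M := Int.natCast_dvd_natCast.2 h2
  have h5 : (M : ℤ) = q ^ 2 - q + 1 := by
    have h6 : (M : ℤ) * (q + 1) = q ^ 3 + 1 := by exact_mod_cast hM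
    have h7 : ((q : ℤ) + 1) ≠ 0 := by positivity
    apply mul_right_cancel₀ h7
    rw [h6]
    ring
  have h8 : (3 : ℤ) = (M - (q ^ 2 - 1)) * (2 + q) + (q ^ 2 - 1) := by
    rw [h5]; ring
  have h9 : (g : ℤ) ∣ 3 := by
    rw [h8]
    exact dvd_add (Dvd.dvd.mul_right (dvd_sub h4 h3) _) h3
  exact_mod_cast h9

theorem arith_five {q M : ℕ} (hM : M * (q + 1) = q ^ 5 + 1) (g : ℕ) (h1 : g ∣ q ^ 2 - 1) (h2 : g ∣ M) (hq : 1 < q) : g ∣ 5 := by
  have h3 : (g : ℤ) ∣ (q : ℤ) ^ 2 - 1 := by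
    have := Int.natCast_dvd_natCast.2 h1
    rwa [Nat.cast_sub (Nat.one_le_pow _ _ (by omega)), Nat.cast_pow, Nat.cast_one] at this
  have h4 : (g : ℤ) ∣ M := Int.natCast_dvd_natCast.2 h2
  have h5 : (M : ℤ) = q ^ 4 - q ^ 3 + q ^ 2 - q + 1 := by
    have h6 : (M : ℤ) * (q + 1) = q ^ 5 + 1 := by exact_mod_cast hM
    have h7 : ((q : ℤ) + 1) ≠ 0 := by positivity
    apply mul_right_cancel₀ h7
    rw [h6]
    ring
  have h8 : (5 : ℤ) = (M - (q ^ 2 - 1) * (q ^ 2 - q + 2)) * (3 + 2 * q) + 4 * (q ^ 2 - 1) := by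
    rw [h5]; ring
  have h9 : (g : ℤ) ∣ 5 := by
    rw [h8]
    exact dvd_add (Dvd.dvd.mul_right (dvd_sub h4 (h3.mul_right _)) _) (h3.mul_left _)
  exact_mod_cast h9

theorem big_of (hF : Fintype.card K = q ^ 2) {m d n : ℕ} (hm : m.Prime) (hm2 : m ≠ 2) (hd : d ≤ 1) (hn : m + d = n)
    (hn4 : 4 ≤ n) (hn5 : n ≤ 5) {M : ℕ} (hM : M * (q + 1) = q ^ m + 1) (hg : ∀ g, g ∣ q ^ 2 - 1 → g ∣ M → g ∣ m)
    (hMb : 7 * m < M) {p : ℕ} (hp : p.Prime) (hp2 : p ≠ 2) (hpq : p ∣ q - 1) : H33.IM (p ^ 2) (PSU n K q) := by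
  classical
  have : Fact p.Prime := ⟨hp⟩
  have hq : Nat.card K = q ^ 2 := by rw [Nat.card_eq_fintype_card, hF]
  have hq1 : 1 < q := LieClassical.HermBasic.two_le hF
  obtain ⟨L, i1, i2, ⟨D⟩⟩ := exists_dat K q hq hm hm2 hd hn
  obtain ⟨k, μ, hk, hirr, hinj, hres, hcen⟩ := D.family hq1 hg hM
  have hk7 : 7 ≤ k := by
    by_contra h
    have : m * k ≤ m * 6 := Nat.mul_le_mul_left _ (by omega)
    omega
  have hpK : (p : K) ≠ 0 := by
    intro h
    obtain ⟨r, hr, hc, h1⟩ := Cfsg.Agent.H113.PSU.Facts.prime_pow hF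
    have h2 : r ∣ p := (CharP.cast_eq_zero_iff K r p).1 h
    have h3 : r = p := (Nat.prime_dvd_prime_iff_eq hr hp).1 h2
    have h4 : p ∣ q := (h1 p hp).2 h3.symm
    have h5 : p ∣ 1 := by
      have := (Nat.dvd_sub h4 hpq)
      rwa [Nat.sub_sub_self (by omega)] at this
    exact hp.one_lt.ne' (Nat.dvd_one.1 h5)
  have hcu : Nat.card Kˣ = (q - 1) * (q + 1) := by
    rw [Nat.card_units, hq, Cfsg.Agent.H113.PSU.Facts.sq_sub (by omega)]
  have hroots : ∃ ζ : K, IsPrimitiveRoot ζ p := by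
    obtain ⟨ζ, hζ⟩ := exists_prime_orderOf_dvd_card' (G := Kˣ) p (by rw [hcu]; exact hpq.mul_right _)
    have h1 := IsPrimitiveRoot.orderOf ζ
    rw [hζ] at h1
    exact ⟨ζ, h1.map_of_injective Units.val_injective (f := Units.coeHom K)⟩
  have hσ : ∀ a : K, a ^ p = 1 → (hermF K hq n).σ a = a := by
    intro a ha
    obtain ⟨e, he⟩ := hpq
    have h1 : (hermF K hq n).σ a = a ^ q := powHom_apply hq a
    have h2 : q = p * e + 1 := by omega
    rw [h1]
    conv_lhs => rw [h2]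
    rw [pow_succ, pow_mul, ha, one_pow, one_mul]
  have hdz := fun i => defect_zero_form (F := hermF K hq n) (by rw [finrank_fin_fun]; exact hn5) hp2 hpK hroots hσ
    hirr hinj (fun W hW0 hW g hg i j => by
      refine hres i j g fun x hx => ?_
      by_contra hxB
      apply hW0
      have h1 : im x W = ⊥ := by
        refine D.not_stab (hW.map x) hx hxB ?_
        rintro _ ⟨w, hw, rfl⟩
        refine ⟨(g : (Fin n → K) ≃ₗ[K] (Fin n → K)) w, mem_St.1 hg w hw, ?_⟩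
        change (x : (Fin n → K) ≃ₗ[K] (Fin n → K)) ((g : (Fin n → K) ≃ₗ[K] (Fin n → K)) w) =
          (x : (Fin n → K) ≃ₗ[K] (Fin n → K)) ((g : (Fin n → K) ≃ₗ[K] (Fin n → K))
            (((x⁻¹ : G K hq n) : (Fin n → K) ≃ₗ[K] (Fin n → K)) ((x : (Fin n → K) ≃ₗ[K] (Fin n → K)) w)))
        have h2 : ((x⁻¹ : G K hq n) : (Fin n → K) ≃ₗ[K] (Fin n → K)) ((x : (Fin n → K) ≃ₗ[K] (Fin n → K)) w) = w :=
          (x : (Fin n → K) ≃ₗ[K] (Fin n → K)).symm_apply_apply w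
        rw [h2]
      rw [Submodule.eq_bot_iff] at h1 ⊢
      intro w hw
      have h2 := h1 _ ⟨w, hw, rfl⟩
      have h3 : (x : (Fin n → K) ≃ₗ[K] (Fin n → K)) w = 0 := h2
      rwa [LinearEquiv.map_eq_zero_iff] at h3) (by rw [Fintype.card_fin]; exact hk7) i
  -- the order
  have hord : p ^ 2 ∣ Nat.card (G K hq n) := by
    rw [← Nat.card_congr (isoGU hq n).toEquiv, S0277.result hF n]
    refine Dvd.dvd.mul_left ?_ _
    have h1 : p ∣ q ^ 2 - 1 := hpq.trans (by rw [Cfsg.Agent.H113.PSU.Facts.sq_sub (by omega)]; exact Dvd.intro _ rfl)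
    have h2 : p ∣ q ^ 4 - 1 := by
      have h3 : q ^ 2 - 1 ∣ (q ^ 2) ^ 2 - 1 := by
        have := Nat.sub_dvd_pow_sub_pow (q ^ 2) 1 2
        rwa [one_pow] at this
      rw [← pow_mul] at h3
      exact h1.trans h3
    obtain ⟨e, rfl⟩ : ∃ e, n = 4 + e := ⟨n - 4, by omega⟩
    rw [Finset.prod_range_add, Finset.prod_range_succ, Finset.prod_range_succ, Finset.prod_range_succ,
      Finset.prod_range_succ, Finset.prod_range_zero, one_mul]
    refine Dvd.dvd.mul_right ?_ _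
    have e1 : ¬ Even 1 := by decide
    have e3 : ¬ Even 3 := by decide
    have e0 : Even 0 := by decide
    have e2 : Even 2 := by decide
    rw [if_pos e0, if_neg e1, if_pos e2, if_neg e3, sq]
    exact Nat.mul_dvd_mul (Dvd.dvd.mul_right (Dvd.dvd.mul_left h1 _) _) h2
  have : Finite (G K hq n) := finite_iso (hermF K hq n)
  let i0 : Fin k := ⟨0, by omega⟩
  have hdvd := dvd_of_defect_zero (hirr i0) (hdz i0) hord
  obtain ⟨φ, t, h1, h2, h3, -⟩ := Cfsg.Agent.H113.Two.PsuChars.to_psu hF hq (by omega) (hirr i0)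
    (Cfsg.Agent.Blocks.Basic.irr_one_eq_charDegree (hirr i0)) (fun z a ha _ hz => by
      obtain ⟨h1, h2, h3⟩ := D.scal hz
      exact hcen (by omega) z h1 h2 h3 i0)
  refine ⟨φ, ?_⟩
  rw [← h1] at hdvd
  refine Nat.Coprime.dvd_of_dvd_mul_right (Nat.Coprime.pow_left 2 ?_) hdvd
  rw [Nat.Prime.coprime_iff_not_dvd hp]
  intro h4
  have h5 : p ∣ q + 1 := h4.trans h3
  have h6 : p ∣ 2 := by
    have := Nat.dvd_sub h5 hpq
    have h7 : q + 1 - (q - 1) = 2 := by omega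
    rwa [h7] at this
  exact hp2 ((Nat.prime_dvd_prime_iff_eq hp Nat.prime_two).1 h6)

/-- **`PSU_4(q)`, `PSU_5(q)`, `p ∥ q - 1`** -/
theorem hyp_four (hF : Fintype.card K = q ^ 2) {n : ℕ} (hn : n = 4 ∧ q ≠ 4 ∨ n = 5) {p : ℕ} (hp : p.Prime) (hp2 : p ≠ 2)
    (hpq : p ∣ q - 1) : H33.IM (p ^ 2) (PSU n K q) := by
  have hq1 : 1 < q := LieClassical.HermBasic.two_le hF
  have hp3 : 3 ≤ p := by have := hp.two_le; omega
  have hq4 : 4 ≤ q := by
    have := Nat.le_of_dvd (by omega) hpq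
    omega
  have hodd : Odd 3 := by decide
  rcases hn with ⟨rfl, hn⟩ | rfl
  · obtain ⟨M, hM⟩ : q + 1 ∣ q ^ 3 + 1 := by
      have := Odd.nat_add_dvd_pow_add_pow q 1 (show Odd 3 by decide)
      rwa [one_pow] at this
    rw [mul_comm] at hM
    refine big_of hF (m := 3) (d := 1) (by norm_num) (by norm_num) le_rfl rfl (by norm_num) (by norm_num) hM.symm
      (fun g h1 h2 => arith_three hM.symm g h1 h2 hq1) ?_ hp hp2 hpq
    have hq5 : q ≠ 5 := by
      rintro rfl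
      have h1 : p ∣ 2 ^ 2 := hpq
      exact hp2 ((Nat.prime_dvd_prime_iff_eq hp Nat.prime_two).1 (hp.dvd_of_dvd_pow h1))
    have hq6 : 6 ≤ q := by omega
    by_contra h
    have h1 : M ≤ 21 := by omega
    nlinarith [Nat.mul_le_mul h1 (le_refl (q + 1)), Nat.mul_le_mul hq6 (Nat.mul_le_mul hq6 (le_refl q))]
  · obtain ⟨M, hM⟩ : q + 1 ∣ q ^ 5 + 1 := by
      have := Odd.nat_add_dvd_pow_add_pow q 1 (show Odd 5 by decide)
      rwa [one_pow] at this
    rw [mul_comm] at hM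
    refine big_of hF (m := 5) (d := 0) (by norm_num) (by norm_num) (by norm_num) rfl (by norm_num) (by norm_num) hM.symm
      (fun g h1 h2 => arith_five hM.symm g h1 h2 hq1) ?_ hp hp2 hpq
    by_contra h
    have h1 : M ≤ 35 := by omega
    have h2 : 4 ^ 4 * q ≤ q ^ 4 * q := Nat.mul_le_mul (Nat.pow_le_pow_left hq4 4) le_rfl
    have h3 : q ^ 5 = q ^ 4 * q := by ring
    have h4 := Nat.mul_le_mul h1 (le_refl (q + 1))
    omega

end Cfsg.Agent.H113.Cusp.Torus
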