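import Cfsg.Agent.H113.Cusp.Flag

/-!
# Flags in Witt index two: at most two fixed vectors for the radicals of adjacent parabolic subgroups (helper113)
-/

set_option autoImplicit false
set_option linter.unusedSectionVars false

open scoped ComplexConjugate
open Cfsg

namespace Cfsg.Agent.H113.Cusp.Rel

open Module Cfsg.Agent.H53.HC Cfsg.Agent.H477.HC Cfsg.Agent.H477.HC.CForm Cfsg.Agent.H113.Two.HcOne
  Cfsg.Agent.H113.Cusp.Tool Cfsg.Agent.H113.Cusp.Flag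

universe u v w

variable {K : Type u} [Field K] {V : Type v} [AddCommGroup V] [Module K V] {F : CForm K V} [FiniteDimensional K V]

/-- Witt index at most two and `L^⊥ / L` of dimension at most one -/
structure Rk2 (F : CForm K V) : Prop where
  le : ∀ W, F.TS W → finrank K W ≤ 2
  sc : ∀ L ∈ F.Om 2, ∀ g ∈ St F L, ∃ c : K, ∀ v ∈ F.perp L, (g : V ≃ₗ[K] V) v - c • v ∈ L

/-- the unipotent radical of the stabiliser of the flag `⟨e⟩ ≤ L` -/
structure UU (F : CForm K V) (e : V) (L : Submodule K V) (u : F.iso) : Prop where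
  h1 : (u : V ≃ₗ[K] V) e = e
  h2 : ∀ v ∈ L, ∃ c : K, (u : V ≃ₗ[K] V) v = v + c • e
  h3 : ∀ v ∈ F.perp L, (u : V ≃ₗ[K] V) v - v ∈ L

/-- the stabiliser of the flag -/
def BB (F : CForm K V) (e : V) (L : Submodule K V) : Subgroup F.iso := St F (K ∙ e) ⊓ St F L

theorem St_line {e : V} {g : F.iso} : g ∈ St F (K ∙ e) ↔ ∃ c : K, (g : V ≃ₗ[K] V) e = c • e := by
  rw [mem_St]
  constructor
  · intro h
    obtain ⟨c, hc⟩ := Submodule.mem_span_singleton.1 (h e (Submodule.mem_span_singleton_self e))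
    exact ⟨c, hc.symm⟩
  · rintro ⟨c, hc⟩ w hw
    obtain ⟨t, rfl⟩ := Submodule.mem_span_singleton.1 hw
    rw [map_smul, hc, smul_smul]
    exact Submodule.mem_span_singleton.2 ⟨_, rfl⟩

theorem span_two {L : Submodule K V} (hL : finrank K L = 2) {e f : V} (he : e ∈ L) (hf : f ∈ L) (he0 : e ≠ 0)
    (hef : ∀ c : K, f ≠ c • e) {v : V} (hv : v ∈ L) : ∃ x y : K, v = x • f + y • e := by
  have hli : LinearIndependent K ![f, e] := by
    rw [LinearIndependent.pair_iff]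
    intro s t hst
    have hs : s = 0 := by
      by_contra hs
      apply hef (-(s⁻¹ * t))
      have h1 : f = s⁻¹ • (s • f) := by rw [smul_smul, inv_mul_cancel₀ hs, one_smul]
      rw [h1, eq_neg_of_add_eq_zero_left hst]
      module
    rw [hs, zero_smul, zero_add] at hst
    exact ⟨hs, (smul_eq_zero.1 hst).resolve_right he0⟩
  have h2 : Submodule.span K (Set.range ![f, e]) = L := by
    apply Submodule.eq_of_le_of_finrank_eq
    · rw [Submodule.span_le]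
      rintro _ ⟨i, rfl⟩
      fin_cases i
      · exact hf
      · exact he
    · rw [finrank_span_eq_card hli, Fintype.card_fin, hL]
  rw [← h2] at hv
  obtain ⟨c, hc⟩ := (Submodule.mem_span_range_iff_exists_fun K).1 hv
  refine ⟨c 0, c 1, ?_⟩
  rw [← hc, Fin.sum_univ_two]
  rfl

theorem exists_second {L : Submodule K V} (hL : finrank K L = 2) (e : V) : ∃ f ∈ L, ∀ c : K, f ≠ c • e := by
  by_contra hcon
  push Not at hcon
  have h1 : L ≤ K ∙ e := by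
    intro f hf
    obtain ⟨c, hc⟩ := hcon f hf
    exact Submodule.mem_span_singleton.2 ⟨c, hc.symm⟩
  have h2 := Submodule.finrank_mono h1
  have h3 := finrank_span_le_card (R := K) ({e} : Set V)
  simp only [Set.toFinset_singleton, Finset.card_singleton] at h3
  omega

/-- elements of the flag stabiliser act by a scalar on `L / ⟨e⟩` -/
theorem BB.sc {e : V} {L : Submodule K V} (hL : finrank K L = 2) (he : e ∈ L) (he0 : e ≠ 0) {a : F.iso}
    (ha : a ∈ BB F e L) : ∃ α : K, ∀ v ∈ L, ∃ c : K, (a : V ≃ₗ[K] V) v = α • v + c • e := by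
  obtain ⟨f, hf, hfe⟩ := exists_second hL e
  obtain ⟨α, hα⟩ := St_line.1 ha.1
  obtain ⟨x, y, hxy⟩ := span_two hL he hf he0 hfe (mem_St.1 ha.2 f hf)
  refine ⟨x, fun v hv => ?_⟩
  obtain ⟨s, t, rfl⟩ := span_two hL he hf he0 hfe hv
  refine ⟨s * y + t * α - x * t, ?_⟩
  rw [map_add, map_smul, map_smul, hxy, hα]
  module

/-- **commutators of the flag stabiliser** -/
theorem comm_UU (hR : Rk2 F) {e : V} {L : Submodule K V} (hL : L ∈ F.Om 2) (he : e ∈ L) (he0 : e ≠ 0) {a b : F.iso}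
    (ha : a ∈ BB F e L) (hb : b ∈ BB F e L) : UU F e L ((b * a)⁻¹ * (a * b)) := by
  have hx : b * a ∈ BB F e L := mul_mem hb ha
  have hx' := Subgroup.inv_mem _ hx
  obtain ⟨α, hα⟩ := St_line.1 ha.1
  obtain ⟨β, hβ⟩ := St_line.1 hb.1
  obtain ⟨ξ, hξ⟩ := St_line.1 hx'.1
  obtain ⟨α', hα'⟩ := BB.sc hL.2 he he0 ha
  obtain ⟨β', hβ'⟩ := BB.sc hL.2 he he0 hb
  obtain ⟨γ, hγ⟩ := hR.sc L hL a ha.2
  obtain ⟨δ, hδ⟩ := hR.sc L hL b hb.2
  refine ⟨?_, fun v hv => ?_, fun v hv => ?_⟩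
  · have e1 : ((a * b : F.iso) : V ≃ₗ[K] V) e = ((b * a : F.iso) : V ≃ₗ[K] V) e := by
      rw [mul_ap, mul_ap, hβ, hα, map_smul, map_smul, hα, hβ, smul_smul, smul_smul, mul_comm]
    rw [mul_ap, e1, inv_ap]
  · obtain ⟨c, hc⟩ := hα' v hv
    obtain ⟨d, hd⟩ := hβ' v hv
    have e1 : ((a * b : F.iso) : V ≃ₗ[K] V) v = ((b * a : F.iso) : V ≃ₗ[K] V) v + (β' * c + d * α - (α' * d + c * β)) • e := by
      rw [mul_ap, mul_ap, hd, hc, map_add, map_add, map_smul, map_smul, map_smul, map_smul, hc, hd, hα, hβ]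
      module
    refine ⟨(β' * c + d * α - (α' * d + c * β)) * ξ, ?_⟩
    rw [mul_ap, e1, map_add, inv_ap, map_smul, hξ, smul_smul]
  · have e1 : ((a * b : F.iso) : V ≃ₗ[K] V) v - ((b * a : F.iso) : V ≃ₗ[K] V) v ∈ L := by
      have h1 := hγ v hv
      have h2 := hδ v hv
      have h3 := mem_St.1 ha.2 _ h2
      have h4 := mem_St.1 hb.2 _ h1
      rw [map_sub, map_smul] at h3 h4
      have e2 : ((a * b : F.iso) : V ≃ₗ[K] V) v - ((b * a : F.iso) : V ≃ₗ[K] V) v =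
          ((a : V ≃ₗ[K] V) ((b : V ≃ₗ[K] V) v) - δ • (a : V ≃ₗ[K] V) v) + δ • ((a : V ≃ₗ[K] V) v - γ • v) -
          (((b : V ≃ₗ[K] V) ((a : V ≃ₗ[K] V) v) - γ • (b : V ≃ₗ[K] V) v) + γ • ((b : V ≃ₗ[K] V) v - δ • v)) := by
        rw [mul_ap, mul_ap]
        module
      rw [e2]
      exact L.sub_mem (L.add_mem h3 (L.smul_mem _ h1)) (L.add_mem h4 (L.smul_mem _ h2))
    have h5 := mem_St.1 hx'.2 _ e1
    rw [map_sub, inv_ap] at h5
    exact h5

/-- the flag stabiliser normalises the radical -/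
theorem UU.conj {e : V} {L : Submodule K V} {u b : F.iso} (hu : UU F e L u)
    (hb : b ∈ BB F e L) : UU F e L (b⁻¹ * u * b) := by
  have hb' := Subgroup.inv_mem _ hb
  obtain ⟨β, hβ⟩ := St_line.1 hb.1
  obtain ⟨γ, hγ⟩ := St_line.1 hb'.1
  refine ⟨?_, fun v hv => ?_, fun v hv => ?_⟩
  · rw [mul_ap, mul_ap, hβ, map_smul, hu.h1, ← hβ, inv_ap]
  · obtain ⟨c, hc⟩ := hu.h2 _ (mem_St.1 hb.2 v hv)
    exact ⟨c * γ, by rw [mul_ap, mul_ap, hc, map_add, inv_ap, map_smul, hγ, smul_smul]⟩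
  · have h1 := mem_St.1 hb'.2 _ (hu.h3 _ (mem_perp_ap hb.2 hv))
    rw [map_sub, inv_ap] at h1
    exact h1

theorem UU.inv {e : V} {L : Submodule K V} {u : F.iso} (hu : UU F e L u) (hL : u ∈ St F L) : UU F e L u⁻¹ := by
  refine ⟨?_, fun v hv => ?_, fun v hv => ?_⟩
  · have := inv_ap u e
    rwa [hu.h1] at this
  · have hv' : ((u⁻¹ : F.iso) : V ≃ₗ[K] V) v ∈ L := mem_St.1 (Subgroup.inv_mem _ hL) v hv
    obtain ⟨c, hc⟩ := hu.h2 _ hv'
    refine ⟨-c, ?_⟩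
    rw [ap_inv] at hc
    have h1 : ((u⁻¹ : F.iso) : V ≃ₗ[K] V) v = (((u⁻¹ : F.iso) : V ≃ₗ[K] V) v + c • e) + -c • e := by module
    rwa [← hc] at h1
  · have hv' := mem_perp_ap (Subgroup.inv_mem _ hL) hv
    have h1 := L.neg_mem (hu.h3 _ hv')
    rw [ap_inv] at h1
    have e1 : -(v - ((u⁻¹ : F.iso) : V ≃ₗ[K] V) v) = ((u⁻¹ : F.iso) : V ≃ₗ[K] V) v - v := by abel
    rwa [e1] at h1

theorem UU.mul {e : V} {L : Submodule K V} {u z : F.iso} (hu : UU F e L u) (hz : UU F e L z) (hL : z ∈ St F L) :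
    UU F e L (u * z) := by
  refine ⟨?_, fun v hv => ?_, fun v hv => ?_⟩
  · rw [mul_ap, hz.h1, hu.h1]
  · obtain ⟨c, hc⟩ := hz.h2 v hv
    obtain ⟨d, hd⟩ := hu.h2 v hv
    refine ⟨c + d, ?_⟩
    rw [mul_ap, hc, map_add, hd, map_smul, hu.h1]
    module
  · have h1 := hu.h3 _ (mem_perp_ap hL hv)
    have h2 := L.add_mem h1 (hz.h3 v hv)
    rw [sub_add_sub_cancel] at h2
    exact h2

theorem UU.mem_St {e : V} {L : Submodule K V} {u : F.iso} (hu : UU F e L u) (he : e ∈ L) : u ∈ St F L := by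
  rw [Flag.mem_St]
  intro v hv
  obtain ⟨c, hc⟩ := hu.h2 v hv
  rw [hc]
  exact L.add_mem hv (L.smul_mem _ he)

theorem UU.mem_BB {e : V} {L : Submodule K V} {u : F.iso} (hu : UU F e L u) (he : e ∈ L) : u ∈ BB F e L :=
  ⟨St_line.2 ⟨1, by rw [hu.h1, one_smul]⟩, hu.mem_St he⟩

/-! ### points -/

theorem sp_two {e e' : V} (he : F.Sing e) (he' : F.Sing e') (hp : F.B e e' = 0) (he0 : e ≠ 0)
    (hne : ∀ c : K, e' ≠ c • e) : (K ∙ e) ⊔ (K ∙ e') ∈ F.Om 2 := by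
  refine ⟨F.TS_sup (F.TS_span_singleton he) (F.TS_span_singleton he') ?_, ?_⟩
  · intro w hw w' hw'
    obtain ⟨s, rfl⟩ := Submodule.mem_span_singleton.1 hw
    obtain ⟨t, rfl⟩ := Submodule.mem_span_singleton.1 hw'
    rw [F.B_smul_left, F.B_smul_right, hp, mul_zero, mul_zero]
  · have he0' : e' ≠ 0 := by
      intro h
      apply hne 0
      rw [h, zero_smul]
    have h1 : (K ∙ e) ⊓ (K ∙ e') = ⊥ := by
      rw [Submodule.eq_bot_iff]
      rintro x ⟨hx, hx'⟩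
      obtain ⟨s, rfl⟩ := Submodule.mem_span_singleton.1 hx
      obtain ⟨t, ht⟩ := Submodule.mem_span_singleton.1 hx'
      by_cases ht0 : t = 0
      · rw [← ht, ht0, zero_smul]
      · exfalso
        apply hne (t⁻¹ * s)
        rw [mul_smul, ← ht, smul_smul, inv_mul_cancel₀ ht0, one_smul]
    have h2 := Submodule.finrank_sup_add_finrank_inf_eq (K ∙ e) (K ∙ e')
    rw [h1, finrank_bot, finrank_span_singleton he0, finrank_span_singleton he0'] at h2
    omega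

theorem no3 (hR : Rk2 F) {e e' g : V} (he : F.Sing e) (he' : F.Sing e') (hg : F.Sing g) (hp : F.B e e' = 0)
    (he0 : e ≠ 0) (hne : ∀ c : K, e' ≠ c • e) (h1 : F.B e g = 0) (h2 : F.B e' g = 0) : g ∈ (K ∙ e) ⊔ (K ∙ e') := by
  by_contra hcon
  have hL := sp_two he he' hp he0 hne
  have h3 : F.TS (((K ∙ e) ⊔ (K ∙ e')) ⊔ (K ∙ g)) := by
    refine F.TS_sup hL.1 (F.TS_span_singleton hg) ?_
    intro w hw w' hw'
    obtain ⟨a, ha, b, hb, rfl⟩ := Submodule.mem_sup.1 hw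
    obtain ⟨s, rfl⟩ := Submodule.mem_span_singleton.1 ha
    obtain ⟨t, rfl⟩ := Submodule.mem_span_singleton.1 hb
    obtain ⟨r, rfl⟩ := Submodule.mem_span_singleton.1 hw'
    rw [F.B_add_left, F.B_smul_left, F.B_smul_left, F.B_smul_right, F.B_smul_right, h1, h2]
    ring
  have h4 := hR.le _ h3
  have h5 : (K ∙ e) ⊔ (K ∙ e') = ((K ∙ e) ⊔ (K ∙ e')) ⊔ (K ∙ g) := by
    apply Submodule.eq_of_le_of_finrank_le le_sup_left
    rw [hL.2]; exact h4
  apply hcon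
  rw [h5]
  exact Submodule.mem_sup_right (Submodule.mem_span_singleton_self g)

/-- `⟨e⟩` and `⟨e'⟩` are adjacent -/
structure Adj (F : CForm K V) (e e' : V) : Prop where
  he : F.Sing e
  he' : F.Sing e'
  hp : F.B e e' = 0
  he0 : e ≠ 0
  hne : ∀ c : K, e' ≠ c • e

theorem Adj.he0' {e e' : V} (h : Adj F e e') : e' ≠ 0 := by
  intro h0
  apply h.hne 0
  rw [h0, zero_smul]

theorem Adj.hne' {e e' : V} (h : Adj F e e') (c : K) : e ≠ c • e' := by
  intro h0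
  by_cases hc : c = 0
  · rw [hc, zero_smul] at h0
    exact h.he0 h0
  · apply h.hne c⁻¹
    rw [h0, smul_smul, inv_mul_cancel₀ hc, one_smul]

theorem Adj.symm {e e' : V} (h : Adj F e e') : Adj F e' e := ⟨h.he', h.he, F.B_eq_zero h.hp, h.he0', h.hne'⟩

theorem Adj.om {e e' : V} (h : Adj F e e') : (K ∙ e) ⊔ (K ∙ e') ∈ F.Om 2 := sp_two h.he h.he' h.hp h.he0 h.hne

theorem mem_perp_line {e v : V} : v ∈ F.perp (K ∙ e) ↔ F.B v e = 0 := by
  constructor
  · intro h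
    exact h e (Submodule.mem_span_singleton_self e)
  · intro h w hw
    obtain ⟨t, rfl⟩ := Submodule.mem_span_singleton.1 hw
    rw [F.B_smul_right, h, mul_zero]

theorem Adj.inter {e e' : V} (h : Adj F e e') {x : V} (h1 : x ∈ K ∙ e) (h2 : x ∈ K ∙ e') : x = 0 := by
  obtain ⟨s, rfl⟩ := Submodule.mem_span_singleton.1 h1
  obtain ⟨t, ht⟩ := Submodule.mem_span_singleton.1 h2
  by_cases ht0 : t = 0
  · rw [← ht, ht0, zero_smul]
  · exfalso
    apply h.hne (t⁻¹ * s)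
    rw [mul_smul, ← ht, smul_smul, inv_mul_cancel₀ ht0, one_smul]

/-- a hyperbolic partner of `e'` orthogonal to `e` -/
theorem Adj.partner {e e' : V} (h : Adj F e e') : ∃ f : V, F.Sing f ∧ F.B e' f = 1 ∧ F.B e f = 0 := by
  have hm := Submodule.mem_span_singleton_self (R := K) e'
  have h1 : (LinearEquiv.coord K V e' h.he0' : (K ∙ e') →ₗ[K] K) ⟨e', hm⟩ = 1 :=
    LinearEquiv.coord_self K V e' h.he0'
  obtain ⟨b, hb, hb1, hb2⟩ := CForm.exists_sing_dual (F := F) (W' := K ∙ e) (F.TS_span_singleton h.he')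
    (fun w hw => by
      obtain ⟨t, rfl⟩ := Submodule.mem_span_singleton.1 hw
      rw [mem_perp_line, F.B_smul_left, F.B_eq_zero h.hp, mul_zero])
    (LinearEquiv.coord K V e' h.he0' : (K ∙ e') →ₗ[K] K) (fun w hw => by
      have h2 : w = 0 := Subtype.ext (h.inter hw w.2)
      rw [h2, map_zero])
    (fun h0 => by
      rw [h0] at h1
      exact zero_ne_one h1)
  exact ⟨b, hb, by rw [← hb1 ⟨e', hm⟩, h1], hb2 e (Submodule.mem_span_singleton_self e)⟩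

theorem rad_UU {e : V} (he : F.Sing e) {L : Submodule K V} (hL : F.TS L) (heL : e ∈ L) {u : F.iso}
    (hu : u ∈ rad F (K ∙ e)) : UU F e L u := by
  rw [mem_rad (F.TS_span_singleton he)] at hu
  have hle : K ∙ e ≤ L := (Submodule.span_singleton_le_iff_mem e L).2 heL
  refine ⟨hu.1 e (Submodule.mem_span_singleton_self e), fun v hv => ?_, fun v hv => ?_⟩
  · obtain ⟨c, hc⟩ := Submodule.mem_span_singleton.1 (hu.2 v (mem_perp_line.2 (hL.2 v hv e heL)))
    refine ⟨c, ?_⟩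
    rw [hc]
    abel
  · exact hle (hu.2 v (mem_perp_line.2 (hv e heL)))

theorem Adj.mem_UU {e e' : V} (h : Adj F e e') {x : F.iso} (hx : x ∈ rad F (K ∙ e')) (hx' : x ∈ St F (K ∙ e)) :
    UU F e ((K ∙ e) ⊔ (K ∙ e')) x := by
  rw [mem_rad (F.TS_span_singleton h.he')] at hx
  have h1 : (x : V ≃ₗ[K] V) e = e := by
    obtain ⟨c, hc⟩ := St_line.1 hx'
    have h2 := hx.2 e (mem_perp_line.2 h.hp)
    have h3 : (x : V ≃ₗ[K] V) e - e ∈ K ∙ e := by
      rw [hc]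
      exact (K ∙ e).sub_mem ((K ∙ e).smul_mem _ (Submodule.mem_span_singleton_self e)) (Submodule.mem_span_singleton_self e)
    exact sub_eq_zero.1 (h.inter h3 h2)
  have h2 : (x : V ≃ₗ[K] V) e' = e' := hx.1 e' (Submodule.mem_span_singleton_self e')
  refine ⟨h1, fun v hv => ⟨0, ?_⟩, fun v hv => ?_⟩
  · obtain ⟨a, ha, b, hb, rfl⟩ := Submodule.mem_sup.1 hv
    obtain ⟨s, rfl⟩ := Submodule.mem_span_singleton.1 ha
    obtain ⟨t, rfl⟩ := Submodule.mem_span_singleton.1 hb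
    rw [map_add, map_smul, map_smul, h1, h2, zero_smul, add_zero]
  · exact (le_sup_right : K ∙ e' ≤ _) (hx.2 v (mem_perp_line.2 (hv e' (Submodule.mem_sup_right
      (Submodule.mem_span_singleton_self e')))))

/-- moving the partner -/
theorem Adj.exists_x {e e' : V} (h : Adj F e e') {f y : V} (hf : F.Sing f) (hy : F.Sing y) (hef : F.B e' f = 1)
    (hey : F.B e' y = 1) (hf0 : F.B e f = 0) (hy0 : F.B e y = 0) :
    ∃ x ∈ rad F (K ∙ e'), x ∈ St F (K ∙ e) ∧ (x : V ≃ₗ[K] V) f = y := by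
  obtain ⟨u, h1, h2, h3⟩ := exists_unip_one (F := F) h.he' hf hef hy hey
  refine ⟨u, (mem_rad (F.TS_span_singleton h.he')).2 ⟨fun w hw => ?_, fun v hv => ?_⟩, St_line.2 ⟨1, ?_⟩, h2⟩
  · obtain ⟨t, rfl⟩ := Submodule.mem_span_singleton.1 hw
    rw [map_smul, h1]
  · rw [h3 v (mem_perp_line.1 hv)]
    have : v - F.B v (y - f) • e' - v = (-F.B v (y - f)) • e' := by module
    rw [this]
    exact (K ∙ e').smul_mem _ (Submodule.mem_span_singleton_self e')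
  · rw [h3 e h.hp, F.B_sub_right, hf0, hy0, sub_zero, zero_smul, sub_zero, one_smul]

/-- **the flag radical is the product of the two radicals** -/
theorem Adj.UU_eq {e e' : V} (h : Adj F e e') {u : F.iso} (hu : UU F e ((K ∙ e) ⊔ (K ∙ e')) u) :
    ∃ x ∈ rad F (K ∙ e'), x ∈ St F (K ∙ e) ∧ x⁻¹ * u ∈ rad F (K ∙ e) := by
  have heL : e ∈ (K ∙ e) ⊔ (K ∙ e') := Submodule.mem_sup_left (Submodule.mem_span_singleton_self e)
  have heL' : e' ∈ (K ∙ e) ⊔ (K ∙ e') := Submodule.mem_sup_right (Submodule.mem_span_singleton_self e')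
  obtain ⟨f, hf, hef, hf0⟩ := h.partner
  obtain ⟨c, hc⟩ := hu.h2 e' heL'
  have h0 : F.B e ((u : V ≃ₗ[K] V) f) = 0 := by
    conv_lhs => rw [← hu.h1]
    rw [F.iso_B, hf0]
  obtain ⟨x, hx, hx', hxf⟩ := h.exists_x hf (F.sing_map u hf) hef (by
    have h1 := F.iso_B u e' f
    rw [hc, F.B_add_left, F.B_smul_left, h0, mul_zero, add_zero, hef] at h1
    exact h1) hf0 h0
  have hxU := h.mem_UU hx hx'
  have hzU : UU F e ((K ∙ e) ⊔ (K ∙ e')) (x⁻¹ * u) :=
    (hxU.inv (hxU.mem_St heL)).mul hu (hu.mem_St heL)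
  refine ⟨x, hx, hx', (mem_rad (F.TS_span_singleton h.he)).2 ⟨fun w hw => ?_, fun v hv => ?_⟩⟩
  · obtain ⟨t, rfl⟩ := Submodule.mem_span_singleton.1 hw
    rw [map_smul, hzU.h1]
  · have hv' := mem_perp_line.1 hv
    have hzf : ((x⁻¹ * u : F.iso) : V ≃ₗ[K] V) f = f := by
      rw [mul_ap, ← hxf, inv_ap]
    obtain ⟨d, hd⟩ := hzU.h2 e' heL'
    have hfe : F.B f e' = F.ε := by rw [F.B_symm, hef, map_one, mul_one]
    have hfe0 : F.B f e = 0 := F.B_eq_zero hf0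
    have hee' : F.B e' e = 0 := F.B_eq_zero h.hp
    set w : V := v - F.B v f • e' - (F.B v e' * F.ε⁻¹) • f with hw
    have hwf : F.B w f = 0 := by
      rw [hw, F.B_sub_left, F.B_sub_left, F.B_smul_left, F.B_smul_left, hef, hf.2]
      ring
    have hwe' : F.B w e' = 0 := by
      rw [hw, F.B_sub_left, F.B_sub_left, F.B_smul_left, F.B_smul_left, hfe, h.he'.2, mul_assoc,
        inv_mul_cancel₀ F.ε_ne]
      ring
    have hwe : F.B w e = 0 := by
      rw [hw, F.B_sub_left, F.B_sub_left, F.B_smul_left, F.B_smul_left, hv', hee', hfe0]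
      ring
    have hwL : w ∈ F.perp ((K ∙ e) ⊔ (K ∙ e')) := by
      intro y hy
      obtain ⟨a, ha, b, hb, rfl⟩ := Submodule.mem_sup.1 hy
      rw [F.B_add_right, mem_perp_line.2 hwe a ha, mem_perp_line.2 hwe' b hb, add_zero]
    have h1 := hzU.h3 w hwL
    obtain ⟨a, ha, b, hb, hab⟩ := Submodule.mem_sup.1 h1
    obtain ⟨s, rfl⟩ := Submodule.mem_span_singleton.1 ha
    obtain ⟨t, rfl⟩ := Submodule.mem_span_singleton.1 hb
    have h2 : t = 0 := by
      have h3 : F.B (((x⁻¹ * u : F.iso) : V ≃ₗ[K] V) w - w) f = 0 := by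
        rw [F.B_sub_left, hwf, sub_zero]
        conv_lhs => rw [← hzf]
        rw [F.iso_B, hwf]
      rw [← hab, F.B_add_left, F.B_smul_left, F.B_smul_left, hf0, hef] at h3
      simpa using h3
    rw [h2, zero_smul, add_zero] at hab
    have h4 : v = w + F.B v f • e' + (F.B v e' * F.ε⁻¹) • f := by rw [hw]; abel
    have h5 : ((x⁻¹ * u : F.iso) : V ≃ₗ[K] V) v - v = (s + F.B v f * d) • e := by
      have h6 : ((x⁻¹ * u : F.iso) : V ≃ₗ[K] V) w = s • e + w := by rw [hab]; abel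
      conv_lhs => rw [h4]
      rw [map_add, map_add, map_smul, map_smul, hzf, hd, h6]
      module
    rw [h5]
    exact (K ∙ e).smul_mem _ (Submodule.mem_span_singleton_self e)

/-- **at most two fixed vectors: points** -/
theorem dle_point [Finite V] [Finite K] (hR : Rk2 F) {e e' : V} (h : Adj F e e') {y : F.iso}
    (hy : (K ∙ e).map (F.iso.subtype y : V →ₗ[K] V) = K ∙ e') {ψ : St F (K ∙ e) → ℂ} (hψ : IsIrrCharacter _ ψ)
    (hψV : ∀ v : St F (K ∙ e), (v : F.iso) ∈ rad F (K ∙ e) → ψ v = ψ 1) :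
    DLe ψ (xs (St F (K ∙ e)) (rad F (K ∙ e)) y) 2 := by
  classical
  have := finite_iso F
  have hts := F.TS_span_singleton h.he
  set L := (K ∙ e) ⊔ (K ∙ e') with hL
  have heL : e ∈ L := Submodule.mem_sup_left (Submodule.mem_span_singleton_self e)
  have heL' : e' ∈ L := Submodule.mem_sup_right (Submodule.mem_span_singleton_self e')
  have hX : ∀ x : St F (K ∙ e), x ∈ xs (St F (K ∙ e)) (rad F (K ∙ e)) y ↔ (x : F.iso) ∈ rad F (K ∙ e') := by
    intro x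
    rw [mem_xs, mem_rad_map hts, hy]
  obtain ⟨f, hf, hef, hf0⟩ := h.partner
  have hf00 : f ≠ 0 := by
    rintro rfl
    rw [F.B_zero_right] at hef
    exact zero_ne_one hef
  -- the element `w`
  obtain ⟨w, hw1, hw2⟩ := F.trans_rel (x := F.pt e h.he0 h.he) (y := F.pt e' h.he0' h.he') (x' := F.pt e h.he0 h.he)
    (y' := F.pt f hf00 hf) ⟨fun he => by
      obtain ⟨c, -, hc⟩ := F.pt_eq_iff.1 he
      exact h.hne' c hc, F.perp_pt.2 h.hp⟩ ⟨fun he => by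
      obtain ⟨c, -, hc⟩ := F.pt_eq_iff.1 he
      have h1 := F.B_eq_zero h.hp
      rw [hc, F.B_smul_right, hef, mul_one] at h1
      rw [(map_eq_zero F.σ).1 h1, zero_smul] at hc
      exact h.he0 hc, F.perp_pt.2 hf0⟩
  rw [F.smul_pt] at hw1 hw2
  obtain ⟨c₁, hc₁, hwe⟩ := F.pt_eq_iff.1 hw1
  obtain ⟨c₂, hc₂, hwe'⟩ := F.pt_eq_iff.1 hw2
  have hwP : w ∈ St F (K ∙ e) := St_line.2 ⟨c₁, hwe⟩
  have hUX : ∀ u : St F (K ∙ e), UU F e L u → ∃ x ∈ xs (St F (K ∙ e)) (rad F (K ∙ e)) y,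
      ∃ k ∈ (rad F (K ∙ e)).subgroupOf (St F (K ∙ e)), u = x * k := by
    intro u hu
    obtain ⟨x, hx, hx', hxu⟩ := h.UU_eq hu
    refine ⟨⟨x, hx'⟩, (hX _).2 hx, ⟨x⁻¹ * u, rad_le hxu⟩, hxu, ?_⟩
    apply Subtype.ext
    change (u : F.iso) = x * (x⁻¹ * u)
    rw [mul_inv_cancel_left]
  have hV : ((rad F (K ∙ e)).subgroupOf (St F (K ∙ e))).Normal := normal_subgroupOf fun g hg v hv => rad_conj hts hg hv
  refine dLe_two hψ hV hψV ((BB F e L).subgroupOf (St F (K ∙ e)))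
    (xs (St F (K ∙ e)) (rad F (K ∙ e)) y) ⟨w, hwP⟩ (fun g => ?_) (fun a ha b hb => ?_) (fun b hb x hx => ?_)
  · by_cases hg : (g : F.iso) ∈ St F L
    · exact Or.inl ⟨g.2, hg⟩
    · right
      obtain ⟨γ, hγ⟩ := St_line.1 g.2
      have hγ0 : γ ≠ 0 := by
        rintro rfl
        rw [zero_smul] at hγ
        exact F.map_ne g h.he0 hγ
      have hge : F.B e (((g : F.iso) : V ≃ₗ[K] V) e') = 0 := by
        have h1 := F.iso_B (g : F.iso) e e'
        rw [hγ, F.B_smul_left, h.hp] at h1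
        exact (mul_eq_zero.1 h1).resolve_left hγ0
      have hne : F.B e' (((g : F.iso) : V ≃ₗ[K] V) e') ≠ 0 := by
        intro h0
        apply hg
        have h1 := no3 hR h.he h.he' (F.sing_map g h.he') h.hp h.he0 h.hne hge h0
        rw [Flag.mem_St]
        intro v hv
        obtain ⟨a, ha, b, hb, rfl⟩ := Submodule.mem_sup.1 hv
        obtain ⟨s, rfl⟩ := Submodule.mem_span_singleton.1 ha
        obtain ⟨t, rfl⟩ := Submodule.mem_span_singleton.1 hb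
        rw [map_add, map_smul, map_smul, hγ]
        exact L.add_mem (L.smul_mem _ (L.smul_mem _ heL)) (L.smul_mem _ h1)
      set β := F.B e' (((g : F.iso) : V ≃ₗ[K] V) e') with hβ
      have hσβ : F.σ β⁻¹ ≠ 0 := by
        rw [Ne, map_eq_zero]
        exact inv_ne_zero hne
      obtain ⟨x, hx, hx', hxf⟩ := h.exists_x (y := F.σ β⁻¹ • ((g : F.iso) : V ≃ₗ[K] V) e') hf
        (F.sing_smul (F.sing_map g h.he') _) hef
        (by rw [F.B_smul_right, F.σσ, ← hβ, inv_mul_cancel₀ hne]) hf0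
        (by rw [F.B_smul_right, hge, mul_zero])
      have hbP : ((x * w)⁻¹ * g : F.iso) ∈ St F (K ∙ e) := mul_mem (inv_mem (mul_mem hx' hwP)) g.2
      refine ⟨⟨x, hx'⟩, (hX _).2 hx, ⟨(x * w)⁻¹ * g, hbP⟩, ⟨hbP, ?_⟩, ?_⟩
      · have h1 : ((x * w : F.iso) : V ≃ₗ[K] V) e' = (c₂ * F.σ β⁻¹) • ((g : F.iso) : V ≃ₗ[K] V) e' := by
          rw [mul_ap, hwe', map_smul, hxf, smul_smul]
        have hcβ : c₂ * F.σ β⁻¹ ≠ 0 := mul_ne_zero hc₂ hσβ
        have h2 : (((x * w)⁻¹ * g : F.iso) : V ≃ₗ[K] V) e' = (c₂ * F.σ β⁻¹)⁻¹ • e' := by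
          have h3 : ((g : F.iso) : V ≃ₗ[K] V) e' = (c₂ * F.σ β⁻¹)⁻¹ • ((x * w : F.iso) : V ≃ₗ[K] V) e' := by
            rw [h1, smul_smul, inv_mul_cancel₀ hcβ, one_smul]
          rw [mul_ap, h3, map_smul, inv_ap]
        obtain ⟨δ, hδ⟩ := St_line.1 hbP
        change ((x * w)⁻¹ * g : F.iso) ∈ St F L
        rw [Flag.mem_St]
        intro v hv
        obtain ⟨a, ha, b, hb, rfl⟩ := Submodule.mem_sup.1 hv
        obtain ⟨s, rfl⟩ := Submodule.mem_span_singleton.1 ha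
        obtain ⟨t, rfl⟩ := Submodule.mem_span_singleton.1 hb
        rw [map_add, map_smul, map_smul, h2, hδ]
        exact L.add_mem (L.smul_mem _ (L.smul_mem _ heL)) (L.smul_mem _ (L.smul_mem _ heL'))
      · apply Subtype.ext
        change (g : F.iso) = x * w * ((x * w)⁻¹ * g)
        rw [mul_inv_cancel_left]
  · have hu := comm_UU hR h.om heL h.he0 ha hb
    obtain ⟨x, hx, k, hk, he⟩ := hUX ((b * a)⁻¹ * (a * b)) hu
    refine ⟨x, hx, k, hk, ?_⟩
    rw [mul_assoc, ← he, mul_inv_cancel_left]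
  · have hxU : UU F e L x := h.mem_UU ((hX x).1 hx) x.2
    have hu := hxU.conj hb
    obtain ⟨x', hx', k, hk, he⟩ := hUX (b⁻¹ * x * b) hu
    refine ⟨x', hx', k, hk, ?_⟩
    rw [mul_assoc, ← he, mul_assoc, mul_inv_cancel_left]

/-! ### lines -/

/-- the lines `⟨e, f⟩` and `⟨e, f'⟩` -/
structure Adj2 (F : CForm K V) (e f f' : V) : Prop where
  h : Adj F e f
  h' : Adj F e f'
  hff : F.B f f' = 1

theorem Adj2.exists_x {e f f' : V} (h : Adj2 F e f f') (c : K) :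
    ∃ x ∈ rad F ((K ∙ e) ⊔ (K ∙ f')), x ∈ St F ((K ∙ e) ⊔ (K ∙ f)) ∧ (x : V ≃ₗ[K] V) e = e ∧
      (x : V ≃ₗ[K] V) f = f + c • e := by
  have hs := F.sing_smul h.h'.he' (F.σ c)
  obtain ⟨x, hx⟩ := F.exists_root (c := e) (b := F.σ c • f') h.h.he hs
    (by rw [F.B_smul_right, h.h'.hp, mul_zero])
  have h1 : (x : V ≃ₗ[K] V) e = e := by
    rw [hx, F.B_smul_right, h.h'.hp, h.h.he.2]
    simp
  have h2 : (x : V ≃ₗ[K] V) f = f + c • e := by
    rw [hx, F.B_smul_right, F.σσ, h.hff, F.B_eq_zero h.h.hp]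
    simp
  have h3 : (x : V ≃ₗ[K] V) f' = f' := by
    rw [hx, F.B_smul_right, h.h'.he'.2, F.B_eq_zero h.h'.hp]
    simp
  have hm := Submodule.mem_span_singleton_self (R := K) e
  refine ⟨x, (mem_rad h.h'.om.1).2 ⟨fun v hv => ?_, fun v hv => ?_⟩, ?_, h1, h2⟩
  · obtain ⟨a, ha, b, hb, rfl⟩ := Submodule.mem_sup.1 hv
    obtain ⟨s, rfl⟩ := Submodule.mem_span_singleton.1 ha
    obtain ⟨t, rfl⟩ := Submodule.mem_span_singleton.1 hb
    rw [map_add, map_smul, map_smul, h1, h3]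
  · have a1 := hv e (Submodule.mem_sup_left hm)
    have a2 := hv f' (Submodule.mem_sup_right (Submodule.mem_span_singleton_self f'))
    rw [hx, F.B_smul_right, a1, a2]
    simp
  · rw [Flag.mem_St]
    intro v hv
    obtain ⟨a, ha, b, hb, rfl⟩ := Submodule.mem_sup.1 hv
    obtain ⟨s, rfl⟩ := Submodule.mem_span_singleton.1 ha
    obtain ⟨t, rfl⟩ := Submodule.mem_span_singleton.1 hb
    rw [map_add, map_smul, map_smul, h1, h2]
    have hf := Submodule.mem_span_singleton_self (R := K) f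
    exact Submodule.add_mem _ (Submodule.smul_mem _ _ (Submodule.mem_sup_left hm)) (Submodule.smul_mem _ _
      (Submodule.add_mem _ (Submodule.mem_sup_right hf) (Submodule.smul_mem _ _ (Submodule.mem_sup_left hm))))

theorem Adj2.mem_UU {e f f' : V} (h : Adj2 F e f f') {x : F.iso} (hx : x ∈ rad F ((K ∙ e) ⊔ (K ∙ f')))
    (hx' : x ∈ St F ((K ∙ e) ⊔ (K ∙ f))) : UU F e ((K ∙ e) ⊔ (K ∙ f)) x := by
  rw [mem_rad h.h'.om.1] at hx
  have heL : e ∈ (K ∙ e) ⊔ (K ∙ f) := Submodule.mem_sup_left (Submodule.mem_span_singleton_self e)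
  have hfL : f ∈ (K ∙ e) ⊔ (K ∙ f) := Submodule.mem_sup_right (Submodule.mem_span_singleton_self f)
  have heL' : e ∈ (K ∙ e) ⊔ (K ∙ f') := Submodule.mem_sup_left (Submodule.mem_span_singleton_self e)
  have hfL' : f' ∈ (K ∙ e) ⊔ (K ∙ f') := Submodule.mem_sup_right (Submodule.mem_span_singleton_self f')
  have h1 := hx.1 e heL'
  have h2 := hx.1 f' hfL'
  obtain ⟨α, β, hαβ⟩ := span_two h.h.om.2 heL hfL h.h.he0 h.h.hne (Flag.mem_St.1 hx' f hfL)
  have hα : α = 1 := by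
    have h3 := F.iso_B x f f'
    rw [h2, hαβ, F.B_add_left, F.B_smul_left, F.B_smul_left, h.h'.hp, h.hff] at h3
    simpa using h3
  rw [hα, one_smul] at hαβ
  refine ⟨h1, fun v hv => ?_, fun v hv => ?_⟩
  · obtain ⟨s, t, rfl⟩ := span_two h.h.om.2 heL hfL h.h.he0 h.h.hne hv
    refine ⟨s * β, ?_⟩
    rw [map_add, map_smul, map_smul, hαβ, h1]
    module
  · have hff' : F.B f' f = F.ε := by rw [F.B_symm, h.hff, map_one, mul_one]
    set w : V := v - F.B v f' • f with hw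
    have hwL' : w ∈ F.perp ((K ∙ e) ⊔ (K ∙ f')) := by
      intro y hy
      obtain ⟨a, ha, b, hb, rfl⟩ := Submodule.mem_sup.1 hy
      obtain ⟨s, rfl⟩ := Submodule.mem_span_singleton.1 ha
      obtain ⟨t, rfl⟩ := Submodule.mem_span_singleton.1 hb
      rw [hw, F.B_add_right, F.B_smul_right, F.B_smul_right, F.B_sub_left, F.B_sub_left, F.B_smul_left, F.B_smul_left,
        hv e heL, F.B_eq_zero h.h.hp, h.hff]
      ring
    have hwL : w ∈ F.perp ((K ∙ e) ⊔ (K ∙ f)) :=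
      Submodule.sub_mem _ hv (Submodule.smul_mem _ _ (h.h.om.1.le_perp hfL))
    obtain ⟨a, ha, b, hb, hab⟩ := Submodule.mem_sup.1 (hx.2 w hwL')
    obtain ⟨s, rfl⟩ := Submodule.mem_span_singleton.1 ha
    obtain ⟨t, rfl⟩ := Submodule.mem_span_singleton.1 hb
    have h3 : t = 0 := by
      have h4 : F.B ((x : V ≃ₗ[K] V) w - w) f = 0 := by
        rw [F.B_sub_left, mem_perp_ap hx' hwL f hfL, hwL f hfL, sub_zero]
      rw [← hab, F.B_add_left, F.B_smul_left, F.B_smul_left, h.h.hp, hff', mul_zero, zero_add] at h4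
      exact (mul_eq_zero.1 h4).resolve_right F.ε_ne
    rw [h3, zero_smul, add_zero] at hab
    have h4 : v = w + F.B v f' • f := by rw [hw]; abel
    have h5 : (x : V ≃ₗ[K] V) v - v = (s + F.B v f' * β) • e := by
      have h6 : (x : V ≃ₗ[K] V) w = s • e + w := by rw [hab]; abel
      conv_lhs => rw [h4]
      rw [map_add, map_smul, hαβ, h6]
      module
    rw [h5]
    exact Submodule.smul_mem _ _ heL

theorem Adj2.UU_eq {e f f' : V} (h : Adj2 F e f f') {u : F.iso} (hu : UU F e ((K ∙ e) ⊔ (K ∙ f)) u) :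
    ∃ x ∈ rad F ((K ∙ e) ⊔ (K ∙ f')), x ∈ St F ((K ∙ e) ⊔ (K ∙ f)) ∧ x⁻¹ * u ∈ rad F ((K ∙ e) ⊔ (K ∙ f)) := by
  have heL : e ∈ (K ∙ e) ⊔ (K ∙ f) := Submodule.mem_sup_left (Submodule.mem_span_singleton_self e)
  have hfL : f ∈ (K ∙ e) ⊔ (K ∙ f) := Submodule.mem_sup_right (Submodule.mem_span_singleton_self f)
  obtain ⟨c, hc⟩ := hu.h2 f hfL
  obtain ⟨x, hx, hx', hxe, hxf⟩ := h.exists_x c
  have hxU := h.mem_UU hx hx'
  have hzU : UU F e ((K ∙ e) ⊔ (K ∙ f)) (x⁻¹ * u) :=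
    (hxU.inv (hxU.mem_St heL)).mul hu (hu.mem_St heL)
  refine ⟨x, hx, hx', (mem_rad h.h.om.1).2 ⟨fun v hv => ?_, hzU.h3⟩⟩
  obtain ⟨a, ha, b, hb, rfl⟩ := Submodule.mem_sup.1 hv
  obtain ⟨s, rfl⟩ := Submodule.mem_span_singleton.1 ha
  obtain ⟨t, rfl⟩ := Submodule.mem_span_singleton.1 hb
  have hzf : ((x⁻¹ * u : F.iso) : V ≃ₗ[K] V) f = f := by
    rw [mul_ap, hc, ← hxf, inv_ap]
  rw [map_add, map_smul, map_smul, hzU.h1, hzf]

/-- **at most two fixed vectors: lines** -/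
theorem dle_line [Finite V] [Finite K] (hR : Rk2 F) {e f f' : V} (h : Adj2 F e f f') {L : Submodule K V}
    (hL : L = (K ∙ e) ⊔ (K ∙ f)) {y : F.iso}
    (hy : L.map (F.iso.subtype y : V →ₗ[K] V) = (K ∙ e) ⊔ (K ∙ f')) {ψ : St F L → ℂ} (hψ : IsIrrCharacter _ ψ)
    (hψV : ∀ v : St F L, (v : F.iso) ∈ rad F L → ψ v = ψ 1) :
    DLe ψ (xs (St F L) (rad F L) y) 2 := by
  classical
  have := finite_iso F
  have hLO : L ∈ F.Om 2 := by rw [hL]; exact h.h.om
  have hts := hLO.1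
  have heL : e ∈ L := by rw [hL]; exact Submodule.mem_sup_left (Submodule.mem_span_singleton_self e)
  have hfL : f ∈ L := by rw [hL]; exact Submodule.mem_sup_right (Submodule.mem_span_singleton_self f)
  have hX : ∀ x : St F L, x ∈ xs (St F L) (rad F L) y ↔ (x : F.iso) ∈ rad F ((K ∙ e) ⊔ (K ∙ f')) := by
    intro x
    rw [mem_xs, mem_rad_map hts, hy]
  -- the element `w`
  obtain ⟨w, hw1, hw2⟩ := F.trans_rel (x := F.pt e h.h.he0 h.h.he) (y := F.pt f h.h.he0' h.h.he')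
    (x' := F.pt f h.h.he0' h.h.he') (y' := F.pt e h.h.he0 h.h.he) ⟨fun he => by
      obtain ⟨c, -, hc⟩ := F.pt_eq_iff.1 he
      exact h.h.hne' c hc, F.perp_pt.2 h.h.hp⟩ ⟨fun he => by
      obtain ⟨c, -, hc⟩ := F.pt_eq_iff.1 he
      exact h.h.hne c hc, F.perp_pt.2 (F.B_eq_zero h.h.hp)⟩
  rw [F.smul_pt] at hw1 hw2
  obtain ⟨c₁, hc₁, hwe⟩ := F.pt_eq_iff.1 hw1
  obtain ⟨c₂, hc₂, hwf⟩ := F.pt_eq_iff.1 hw2
  have hwP : w ∈ St F L := by
    rw [Flag.mem_St]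
    intro v hv
    obtain ⟨s, t, rfl⟩ := span_two hLO.2 heL hfL h.h.he0 h.h.hne hv
    rw [map_add, map_smul, map_smul, hwe, hwf]
    exact L.add_mem (L.smul_mem _ (L.smul_mem _ heL)) (L.smul_mem _ (L.smul_mem _ hfL))
  have hUX1 : ∀ u : F.iso, UU F e L u → ∃ x ∈ rad F ((K ∙ e) ⊔ (K ∙ f')), x ∈ St F L ∧ x⁻¹ * u ∈ rad F L := by
    rw [hL]
    intro u hu
    exact h.UU_eq hu
  have hXU : ∀ x : F.iso, x ∈ rad F ((K ∙ e) ⊔ (K ∙ f')) → x ∈ St F L → UU F e L x := by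
    rw [hL]
    exact fun x hx hx' => h.mem_UU hx hx'
  have hUX : ∀ u : St F L, UU F e L u → ∃ x ∈ xs (St F L) (rad F L) y,
      ∃ k ∈ (rad F L).subgroupOf (St F L), u = x * k := by
    intro u hu
    obtain ⟨x, hx, hx', hxu⟩ := hUX1 u hu
    refine ⟨⟨x, hx'⟩, (hX _).2 hx, ⟨x⁻¹ * u, rad_le hxu⟩, hxu, ?_⟩
    apply Subtype.ext
    change (u : F.iso) = x * (x⁻¹ * u)
    rw [mul_inv_cancel_left]
  have hV : ((rad F L).subgroupOf (St F L)).Normal := normal_subgroupOf fun g hg v hv => rad_conj hts hg hv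
  refine dLe_two hψ hV hψV ((BB F e L).subgroupOf (St F L))
    (xs (St F L) (rad F L) y) ⟨w, hwP⟩ (fun g => ?_) (fun a ha b hb => ?_) (fun b hb x hx => ?_)
  · obtain ⟨α, β, hαβ⟩ := span_two hLO.2 heL hfL h.h.he0 h.h.hne (Flag.mem_St.1 g.2 e heL)
    by_cases hα : α = 0
    · left
      refine ⟨St_line.2 ⟨β, ?_⟩, g.2⟩
      change ((g : F.iso) : V ≃ₗ[K] V) e = β • e
      rw [hαβ, hα, zero_smul, zero_add]
    · right
      obtain ⟨x, hx, hx', hxe, hxf⟩ := h.exists_x (α⁻¹ * β)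
      rw [← hL] at hx'
      have hbP : ((x * w)⁻¹ * g : F.iso) ∈ St F L := mul_mem (inv_mem (mul_mem hx' hwP)) g.2
      refine ⟨⟨x, hx'⟩, (hX _).2 hx, ⟨(x * w)⁻¹ * g, hbP⟩, ⟨?_, hbP⟩, ?_⟩
      · have h1 : ((x * w : F.iso) : V ≃ₗ[K] V) e = (c₁ * α⁻¹) • ((g : F.iso) : V ≃ₗ[K] V) e := by
          rw [mul_ap, hwe, map_smul, hxf, hαβ, smul_add, smul_add, smul_smul, smul_smul, smul_smul, mul_assoc c₁,
            inv_mul_cancel₀ hα, mul_one, mul_assoc c₁]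
        have hcβ : c₁ * α⁻¹ ≠ 0 := mul_ne_zero hc₁ (inv_ne_zero hα)
        refine St_line.2 ⟨(c₁ * α⁻¹)⁻¹, ?_⟩
        change (((x * w)⁻¹ * g : F.iso) : V ≃ₗ[K] V) e = _
        have h3 : ((g : F.iso) : V ≃ₗ[K] V) e = (c₁ * α⁻¹)⁻¹ • ((x * w : F.iso) : V ≃ₗ[K] V) e := by
          rw [h1, smul_smul, inv_mul_cancel₀ hcβ, one_smul]
        rw [mul_ap, h3, map_smul, inv_ap]
      · apply Subtype.ext
        change (g : F.iso) = x * w * ((x * w)⁻¹ * g)
        rw [mul_inv_cancel_left]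
  · have hu := comm_UU hR hLO heL h.h.he0 ha hb
    obtain ⟨x, hx, k, hk, he⟩ := hUX ((b * a)⁻¹ * (a * b)) hu
    refine ⟨x, hx, k, hk, ?_⟩
    rw [mul_assoc, ← he, mul_inv_cancel_left]
  · have hxU : UU F e L x := hXU x ((hX x).1 hx) x.2
    have hu := hxU.conj hb
    obtain ⟨x', hx', k, hk, he⟩ := hUX (b⁻¹ * x * b) hu
    refine ⟨x', hx', k, hk, ?_⟩
    rw [mul_assoc, ← he, mul_assoc, mul_inv_cancel_left]

end Cfsg.Agent.H113.Cusp.Rel
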