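import Mathlib
import Cfsg.Agent.H113.Cusp.Exc
import Cfsg.Agent.H749.HermBlock
import Cfsg.Agent.H749.FieldExt
import Cfsg.Agent.H113.Two.HermData

/-!
# The torus `μ_{q^m+1} × μ_{q+1}^d` of `GU_{m+d}(q)`, `m` an odd prime, `d ≤ 1` (helper113)
-/

set_option autoImplicit false
set_option linter.unusedSectionVars false
set_option linter.style.haveILetI false

open scoped ComplexConjugate
open Cfsg

namespace Cfsg.Agent.H113.Cusp.Torus

open Module Cfsg.Agent.H477.HC Cfsg.Agent.H477.HC.CForm Cfsg.Agent.H749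

universe u

/-- the form on `L × (Fin d → K)` -/
noncomputable def bf {K : Type u} [Field K] {L : Type} [Field L] [Algebra K L] (q m d : ℕ)
    (x y : L × (Fin d → K)) : K :=
  Algebra.trace K L (x.1 * y.1 ^ (q ^ m)) + hermForm d K q x.2 y.2

section form

variable {K : Type u} [Field K] [Fintype K] {q : ℕ} (hF : Fintype.card K = q ^ 2) {L : Type} [Field L] [Algebra K L]
  [Finite L] {m : ℕ} (hm : Odd m) (hL : Nat.card L = Nat.card K ^ m) {σ : K →+* K} (hσ : ∀ x, σ x = x ^ q)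

include hF hm hL hσ

theorem hermF_bf (d : ℕ) : HermF σ (bf (K := K) (L := L) q m d) := by
  have h1 := hermF_odd hF hm hL hσ
  have h0 := hermForm_hermF hF hσ d
  refine ⟨fun u u' v => ?_, fun c u v => ?_, fun u v => ?_, fun u hu => ?_⟩
  · unfold bf
    rw [Prod.fst_add, Prod.snd_add, h0.add]
    have := h1.add u.1 u'.1 v.1
    rw [this]
    ring
  · unfold bf
    rw [Prod.smul_fst, Prod.smul_snd, h0.smul]
    have := h1.smul c u.1 v.1
    rw [this]
    ring
  · unfold bf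
    rw [map_add, ← h0.symm]
    have := h1.symm u.1 v.1
    rw [this]
  · refine Prod.ext (h1.nd _ fun w => ?_) (h0.nd _ fun w => ?_)
    · have h2 := hu (w, 0)
      unfold bf at h2
      rw [h0.zero_right, add_zero] at h2
      exact h2
    · have h2 := hu (0, w)
      unfold bf at h2
      have h3 := h1.zero_right u.1
      rw [h3, zero_add] at h2
      exact h2

theorem exists_j {d n : ℕ} (hn : m + d = n) (hfr : finrank K L = m) :
    ∃ j : (Fin n → K) ≃ₗ[K] L × (Fin d → K), ∀ x y, bf q m d (j x) (j y) = hermForm n K q x y := by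
  have hfin : Module.Finite K L := Module.Finite.of_finite
  exact (hermF_bf hF hm hL hσ d).exists_iso (sigma_ne hF hσ) (sigma_sigma hF hσ) hσ (by
    rw [finrank_prod, hfr, finrank_fin_fun, hn])

end form

/-- the data -/
structure Dat (K : Type u) [Field K] [Finite K] (q : ℕ) (hq : Nat.card K = q ^ 2) (L : Type) [Field L] [Algebra K L]
    (m d n : ℕ) : Type u where
  finL : Finite L
  hm : m.Prime
  hm2 : m ≠ 2
  hd : d ≤ 1
  hfr : finrank K L = m
  j : (Fin n → K) ≃ₗ[K] L × (Fin d → K)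
  hj : ∀ x y, bf q m d (j x) (j y) = hermForm n K q x y

theorem exists_dat (K : Type u) [Field K] [Finite K] (q : ℕ) (hq : Nat.card K = q ^ 2) {m d n : ℕ} (hm : m.Prime)
    (hm2 : m ≠ 2) (hd : d ≤ 1) (hn : m + d = n) :
    ∃ (L : Type) (_ : Field L) (_ : Algebra K L), Nonempty (Dat K q hq L m d n) := by
  have := Fintype.ofFinite K
  have hF : Fintype.card K = q ^ 2 := by rw [← Nat.card_eq_fintype_card, hq]
  obtain ⟨L, i1, i2, i3, hL, hfr⟩ := exists_ext K m hm.ne_zero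
  have hmo : Odd m := hm.odd_of_ne_two hm2
  obtain ⟨j, hj⟩ := exists_j hF hmo hL (σ := powHom hq) (fun x => powHom_apply hq x) hn hfr
  exact ⟨L, i1, i3, ⟨⟨i2, hm, hm2, hd, hfr, j, hj⟩⟩⟩

variable {K : Type u} [Field K] [Finite K] {q : ℕ} {hq : Nat.card K = q ^ 2} {L : Type} [Field L] [Algebra K L]
  {m d n : ℕ} (D : Dat K q hq L m d n)

abbrev G (K : Type u) [Field K] [Finite K] {q : ℕ} (hq : Nat.card K = q ^ 2) (n : ℕ) : Subgroup ((Fin n → K) ≃ₗ[K] (Fin n → K)) :=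
  (hermF K hq n).iso

/-- `g` is `(x, y) ↦ (w τ(x), c y)` -/
def Dat.Sem (g : G K hq n) (τ : L ≃ₐ[K] L) (w : Lˣ) (c : Kˣ) : Prop :=
  ∀ v : Fin n → K, D.j ((g : (Fin n → K) ≃ₗ[K] (Fin n → K)) v) = ((w : L) * τ (D.j v).1, (c : K) • (D.j v).2)

theorem Dat.sem_one : D.Sem 1 1 1 1 := by
  intro v
  rw [Units.val_one, Units.val_one, one_mul, one_smul]
  rfl

theorem Dat.sem_mul {g h : G K hq n} {τ τ' : L ≃ₐ[K] L} {w w' : Lˣ} {c c' : Kˣ} (h1 : D.Sem g τ w c)
    (h2 : D.Sem h τ' w' c') : D.Sem (g * h) (τ * τ') (w * Units.map (τ : L →* L) w') (c * c') := by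
  intro v
  have e1 : D.j (((g * h : G K hq n) : (Fin n → K) ≃ₗ[K] (Fin n → K)) v) =
    D.j ((g : (Fin n → K) ≃ₗ[K] (Fin n → K)) ((h : (Fin n → K) ≃ₗ[K] (Fin n → K)) v)) := rfl
  rw [e1, h1, h2]
  refine Prod.ext ?_ ?_
  · change (w : L) * τ ((w' : L) * τ' (D.j v).1) = ((w : L) * τ (w' : L)) * τ (τ' (D.j v).1)
    rw [map_mul, mul_assoc]
  · change (c : K) • (c' : K) • (D.j v).2 = ((c : K) * c') • (D.j v).2
    rw [smul_smul]

theorem Dat.sem_inv {g : G K hq n} {τ : L ≃ₐ[K] L} {w : Lˣ} {c : Kˣ} (h : D.Sem g τ w c) :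
    D.Sem g⁻¹ τ⁻¹ (Units.map ((τ⁻¹ : L ≃ₐ[K] L) : L →* L) w⁻¹) c⁻¹ := by
  intro v
  obtain ⟨u, rfl⟩ : ∃ u, (g : (Fin n → K) ≃ₗ[K] (Fin n → K)) u = v := (g : (Fin n → K) ≃ₗ[K] (Fin n → K)).surjective v
  have e1 : ((g⁻¹ : G K hq n) : (Fin n → K) ≃ₗ[K] (Fin n → K)) ((g : (Fin n → K) ≃ₗ[K] (Fin n → K)) u) = u :=
    (g : (Fin n → K) ≃ₗ[K] (Fin n → K)).symm_apply_apply u
  rw [e1, h]
  refine Prod.ext ?_ ?_
  · change (D.j u).1 = (τ⁻¹ ((w⁻¹ : Lˣ) : L)) * τ⁻¹ ((w : L) * τ (D.j u).1)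
    rw [← map_mul, ← mul_assoc, ← Units.val_mul, inv_mul_cancel, Units.val_one, one_mul]
    exact (τ.symm_apply_apply _).symm
  · change (D.j u).2 = ((c⁻¹ : Kˣ) : K) • (c : K) • (D.j u).2
    rw [smul_smul, ← Units.val_mul, inv_mul_cancel, Units.val_one, one_smul]

/-- the normaliser of the torus -/
def Dat.N : Subgroup (G K hq n) where
  carrier := {g | ∃ τ w c, D.Sem g τ w c}
  one_mem' := ⟨_, _, _, D.sem_one⟩
  mul_mem' := by
    rintro a b ⟨τ, w, c, h⟩ ⟨τ', w', c', h'⟩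
    exact ⟨_, _, _, D.sem_mul h h'⟩
  inv_mem' := by
    rintro a ⟨τ, w, c, h⟩
    exact ⟨_, _, _, D.sem_inv h⟩

/-- the torus -/
def Dat.T : Subgroup (G K hq n) where
  carrier := {g | ∃ w c, D.Sem g 1 w c}
  one_mem' := ⟨_, _, D.sem_one⟩
  mul_mem' := by
    rintro a b ⟨w, c, h⟩ ⟨w', c', h'⟩
    exact ⟨_, _, D.sem_mul h h'⟩
  inv_mem' := by
    rintro a ⟨w, c, h⟩
    have := D.sem_inv h
    rw [inv_one] at this
    exact ⟨_, _, this⟩

/-- the elements acting on `L` by scalars of `K` -/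
def Dat.B : Subgroup (G K hq n) where
  carrier := {g | ∃ a c : Kˣ, D.Sem g 1 (Units.map (algebraMap K L : K →* L) a) c}
  one_mem' := ⟨1, 1, by rw [map_one]; exact D.sem_one⟩
  mul_mem' := by
    rintro a b ⟨w, c, h⟩ ⟨w', c', h'⟩
    refine ⟨w * w', c * c', ?_⟩
    have := D.sem_mul h h'
    rw [map_mul]
    exact this
  inv_mem' := by
    rintro a ⟨w, c, h⟩
    refine ⟨w⁻¹, c⁻¹, ?_⟩
    have := D.sem_inv h
    rw [inv_one] at this
    rw [map_inv]
    exact this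

theorem Dat.sem_uniq {g : G K hq n} {τ τ' : L ≃ₐ[K] L} {w w' : Lˣ} {c c' : Kˣ} (h : D.Sem g τ w c)
    (h' : D.Sem g τ' w' c') : w = w' ∧ τ = τ' := by
  have h1 : ∀ x : L, (w : L) * τ x = (w' : L) * τ' x := by
    intro x
    have e1 := h (D.j.symm (x, 0))
    have e2 := h' (D.j.symm (x, 0))
    rw [e1] at e2
    have e3 := congrArg Prod.fst e2
    simpa using e3
  have h2 : w = w' := by
    apply Units.ext
    have := h1 1
    rwa [map_one, map_one, mul_one, mul_one] at this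
  subst h2
  refine ⟨rfl, AlgEquiv.ext fun x => ?_⟩
  exact mul_left_cancel₀ w.ne_zero (h1 x)

/-- the first eigenvalue -/
theorem Dat.w_pow {g : G K hq n} {w : Lˣ} {c : Kˣ} (h : D.Sem g 1 w c) : w ^ (q ^ m + 1) = 1 := by
  have := D.finL
  have := Fintype.ofFinite K
  have hF : Fintype.card K = q ^ 2 := by rw [← Nat.card_eq_fintype_card, hq]
  have hfin : Module.Finite K L := Module.Finite.of_finite
  have hL : Nat.card L = Nat.card K ^ m := by
    have := Module.natCard_eq_pow_finrank (K := K) (V := L)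
    rw [this, D.hfr]
  have hmo : Odd m := D.hm.odd_of_ne_two D.hm2
  have hH := hermF_odd hF hmo hL (σ := powHom hq) (fun x => powHom_apply hq x)
  have h1 : ∀ x y : L, Algebra.trace K L ((w : L) * x * ((w : L) * y) ^ (q ^ m)) = Algebra.trace K L (x * y ^ (q ^ m)) := by
    intro x y
    have e1 := D.hj ((g : (Fin n → K) ≃ₗ[K] (Fin n → K)) (D.j.symm (x, 0)))
      ((g : (Fin n → K) ≃ₗ[K] (Fin n → K)) (D.j.symm (y, 0)))
    have e2 := D.hj (D.j.symm (x, 0)) (D.j.symm (y, 0))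
    have e3 := (hermF K hq n).iso_B g (D.j.symm (x, 0)) (D.j.symm (y, 0))
    change hermForm n K q _ _ = hermForm n K q _ _ at e3
    rw [e3, ← e2, h, h, D.j.apply_symm_apply, D.j.apply_symm_apply] at e1
    unfold bf at e1
    simpa [hermForm] using e1
  have h2 : ∀ x : L, Algebra.trace K L (((w : L) * (w : L) ^ (q ^ m) - 1) * x) = 0 := by
    intro x
    have e1 := h1 x 1
    rw [mul_one, one_pow, mul_one] at e1
    rw [sub_mul, map_sub, one_mul, ← e1, sub_eq_zero]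
    congr 1
    ring
  have h3 : (w : L) * (w : L) ^ (q ^ m) - 1 = 0 := trace_nondeg (F := K) h2
  apply Units.ext
  rw [Units.val_pow_eq_pow_val, Units.val_one, pow_succ']
  exact sub_eq_zero.1 h3

end Cfsg.Agent.H113.Cusp.Torus
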