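import Mathlib
import Cfsg.Agent.H113.Cusp.Torus

/-!
# The torus is a fusion-controlled abelian subgroup (helper113)
-/

set_option autoImplicit false
set_option linter.unusedSectionVars false
set_option linter.style.haveILetI false

open scoped ComplexConjugate
open Cfsg

namespace Cfsg.Agent.H113.Cusp.Torus

open Module Cfsg.Agent.H477.HC Cfsg.Agent.H477.HC.CForm Cfsg.Agent.H749 Cfsg.Agent.H113.Cusp.Exc

universe u

variable {K : Type u} [Field K] {L : Type} [Field L] [Algebra K L]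

theorem exists_aeval [FiniteDimensional K L] (hfr : (finrank K L).Prime) {u : L} (hu : ∀ a : K, algebraMap K L a ≠ u)
    (x : L) : ∃ P : Polynomial K, Polynomial.aeval u P = x := by
  have := Subalgebra.isSimpleOrder_of_finrank_prime K L hfr
  have h1 : Algebra.adjoin K {u} = ⊤ := by
    rcases IsSimpleOrder.eq_bot_or_eq_top (Algebra.adjoin K {u}) with h | h
    · exfalso
      have h2 : u ∈ Algebra.adjoin K {u} := Algebra.subset_adjoin rfl
      rw [h, Algebra.mem_bot] at h2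
      obtain ⟨a, ha⟩ := h2
      exact hu a ha
    · exact h
  have h2 : x ∈ Algebra.adjoin K {u} := by rw [h1]; trivial
  rw [Algebra.adjoin_singleton_eq_range_aeval] at h2
  obtain ⟨P, hP⟩ := h2
  exact ⟨P, hP⟩

theorem aeval_of {u u' : L} (A : L →ₗ[K] L) (hA : ∀ x, A (u * x) = u' * A x) (P : Polynomial K) (x : L) :
    A (Polynomial.aeval u P * x) = Polynomial.aeval u' P * A x := by
  have hk : ∀ (k : ℕ) (x : L), A (u ^ k * x) = u' ^ k * A x := by
    intro k
    induction k with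
    | zero => intro x; rw [pow_zero, one_mul, pow_zero, one_mul]
    | succ k ih => intro x; rw [pow_succ, mul_assoc, ih, hA, pow_succ, mul_assoc]
  induction P using Polynomial.induction_on' with
  | add P Q hP hQ => rw [map_add, add_mul, map_add, hP, hQ, map_add, add_mul]
  | monomial k a =>
    rw [Polynomial.aeval_monomial, Polynomial.aeval_monomial, mul_assoc, ← Algebra.smul_def, map_smul, hk, mul_assoc,
      ← Algebra.smul_def]

theorem semi_of [FiniteDimensional K L] (hfr : (finrank K L).Prime) {u u' : L} (hu : ∀ a : K, algebraMap K L a ≠ u)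
    (A : L →ₗ[K] L) (hA : ∀ x, A (u * x) = u' * A x) (hinj : Function.Injective A) :
    ∃ (τ : L ≃ₐ[K] L) (w : Lˣ), ∀ x, A x = w * τ x := by
  have hw : A 1 ≠ 0 := by
    intro h
    exact one_ne_zero (hinj (h.trans (map_zero A).symm))
  have hmul : ∀ a b : L, A (a * b) = A a * (A 1)⁻¹ * A b := by
    intro a b
    obtain ⟨P, rfl⟩ := exists_aeval hfr hu a
    have h1 := aeval_of A hA P 1
    rw [mul_one] at h1
    rw [aeval_of A hA, h1, mul_assoc (Polynomial.aeval u' P), mul_inv_cancel₀ hw, mul_one]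
  let τ : L →ₐ[K] L := {
    toFun := fun a => (A 1)⁻¹ * A a
    map_one' := inv_mul_cancel₀ hw
    map_mul' := fun a b => by
      change (A 1)⁻¹ * A (a * b) = (A 1)⁻¹ * A a * ((A 1)⁻¹ * A b)
      rw [hmul]
      ring
    map_zero' := by
      change (A 1)⁻¹ * A 0 = 0
      rw [map_zero, mul_zero]
    map_add' := fun a b => by
      change (A 1)⁻¹ * A (a + b) = (A 1)⁻¹ * A a + (A 1)⁻¹ * A b
      rw [map_add, mul_add]
    commutes' := fun r => by
      change (A 1)⁻¹ * A (algebraMap K L r) = algebraMap K L r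
      rw [Algebra.algebraMap_eq_smul_one, map_smul, mul_smul_comm, inv_mul_cancel₀ hw] }
  have hτ : ∀ a, τ a = (A 1)⁻¹ * A a := fun a => rfl
  have hτi : Function.Injective τ := by
    intro a b hab
    rw [hτ, hτ] at hab
    exact hinj (mul_left_cancel₀ (inv_ne_zero hw) hab)
  have hτs : Function.Surjective τ := (LinearMap.injective_iff_surjective (f := τ.toLinearMap)).1 hτi
  refine ⟨AlgEquiv.ofBijective τ ⟨hτi, hτs⟩, Units.mk0 _ hw, fun x => ?_⟩
  change A x = A 1 * ((A 1)⁻¹ * A x)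
  rw [mul_inv_cancel_left₀ hw]

/-- a linear map on a space of dimension at most one is a scalar -/
theorem scal_of {d : ℕ} (hd : d ≤ 1) (f : (Fin d → K) →ₗ[K] (Fin d → K)) (hf : Function.Injective f) :
    ∃ c : Kˣ, ∀ y, f y = (c : K) • y := by
  rcases Nat.eq_zero_or_pos d with rfl | hd0
  · refine ⟨1, fun y => ?_⟩
    apply Subsingleton.elim
  obtain rfl : d = 1 := by omega
  have h1 : ∀ y : Fin 1 → K, y = y 0 • (fun _ => 1) := by
    intro y
    ext i
    obtain rfl : i = 0 := Subsingleton.elim _ _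
    simp
  have h2 : f (fun _ => 1) 0 ≠ 0 := by
    intro h
    have h3 : f (fun _ => 1) = 0 := by
      rw [h1 (f _), h, zero_smul]
    have h4 := hf (h3.trans (map_zero f).symm)
    exact one_ne_zero (congrFun h4 0)
  refine ⟨Units.mk0 _ h2, fun y => ?_⟩
  conv_lhs => rw [h1 y, map_smul, h1 (f _)]
  rw [Units.val_mk0, smul_comm, ← h1]

variable [Finite K] {q : ℕ} {hq : Nat.card K = q ^ 2} {m d n : ℕ} (D : Dat K q hq L m d n)

include D in
theorem Dat.fd : FiniteDimensional K L := by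
  have := D.finL
  exact Module.Finite.of_finite

theorem Dat.not_mem_B {g : G K hq n} {u : Lˣ} {c : Kˣ} (h : D.Sem g 1 u c) (hB : g ∉ D.B) (a : K) :
    algebraMap K L a ≠ u := by
  intro ha
  have ha0 : a ≠ 0 := by
    rintro rfl
    rw [map_zero] at ha
    exact u.ne_zero ha.symm
  apply hB
  refine ⟨Units.mk0 a ha0, c, ?_⟩
  have : Units.map (algebraMap K L : K →* L) (Units.mk0 a ha0) = u := Units.ext ha
  rwa [this]

/-- the linear map of `L × K^d` of an isometry -/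
noncomputable def Dat.ga (g : G K hq n) : (L × (Fin d → K)) ≃ₗ[K] (L × (Fin d → K)) :=
  D.j.symm ≪≫ₗ ((g : (Fin n → K) ≃ₗ[K] (Fin n → K)) ≪≫ₗ D.j)

theorem Dat.ga_apply (g : G K hq n) (v : Fin n → K) :
    D.ga g (D.j v) = D.j ((g : (Fin n → K) ≃ₗ[K] (Fin n → K)) v) := by
  change D.j ((g : (Fin n → K) ≃ₗ[K] (Fin n → K)) (D.j.symm (D.j v))) = _
  rw [D.j.symm_apply_apply]

theorem Dat.ga_sem {g : G K hq n} {τ : L ≃ₐ[K] L} {w : Lˣ} {c : Kˣ} (h : D.Sem g τ w c) (x : L × (Fin d → K)) :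
    D.ga g x = ((w : L) * τ x.1, (c : K) • x.2) := by
  obtain ⟨v, rfl⟩ := D.j.surjective x
  rw [D.ga_apply, h v]

theorem Dat.ga_mul (g h : G K hq n) (x : L × (Fin d → K)) : D.ga (g * h) x = D.ga g (D.ga h x) := by
  obtain ⟨v, rfl⟩ := D.j.surjective x
  rw [D.ga_apply, D.ga_apply, D.ga_apply]
  rfl

theorem Dat.fus {t : G K hq n} (ht : t ∈ D.T) (htB : t ∉ D.B) {g : G K hq n} (hg : g * t * g⁻¹ ∈ D.T) : g ∈ D.N := by
  have := D.fd
  obtain ⟨u, c, hu⟩ := ht
  obtain ⟨u', c', hu'⟩ := hg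
  have huK := D.not_mem_B hu htB
  have hfr : (finrank K L).Prime := by rw [D.hfr]; exact D.hm
  -- commutation
  have h1 : ∀ x : L × (Fin d → K), D.ga g ((u : L) * x.1, (c : K) • x.2) =
      ((u' : L) * (D.ga g x).1, (c' : K) • (D.ga g x).2) := by
    intro x
    have e1 : D.ga (g * t * g⁻¹ * g) x = D.ga (g * t) x := by rw [inv_mul_cancel_right]
    rw [D.ga_mul, D.ga_sem hu', D.ga_mul, D.ga_sem hu] at e1
    exact e1.symm
  -- the parts
  let A : L →ₗ[K] L := LinearMap.fst K L (Fin d → K) ∘ₗ (D.ga g : (L × (Fin d → K)) →ₗ[K] (L × (Fin d → K))) ∘ₗ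
    LinearMap.inl K L (Fin d → K)
  let Bc : L →ₗ[K] (Fin d → K) := LinearMap.snd K L (Fin d → K) ∘ₗ
    (D.ga g : (L × (Fin d → K)) →ₗ[K] (L × (Fin d → K))) ∘ₗ LinearMap.inl K L (Fin d → K)
  let A' : (Fin d → K) →ₗ[K] L := LinearMap.fst K L (Fin d → K) ∘ₗ
    (D.ga g : (L × (Fin d → K)) →ₗ[K] (L × (Fin d → K))) ∘ₗ LinearMap.inr K L (Fin d → K)
  let E : (Fin d → K) →ₗ[K] (Fin d → K) := LinearMap.snd K L (Fin d → K) ∘ₗ
    (D.ga g : (L × (Fin d → K)) →ₗ[K] (L × (Fin d → K))) ∘ₗ LinearMap.inr K L (Fin d → K)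
  have hAB : ∀ x : L, D.ga g (x, 0) = (A x, Bc x) := fun x => rfl
  have hAE : ∀ y : Fin d → K, D.ga g (0, y) = (A' y, E y) := fun y => rfl
  have hL : ∀ x : L, A ((u : L) * x) = u' * A x ∧ Bc ((u : L) * x) = (c' : K) • Bc x := by
    intro x
    have := h1 (x, 0)
    rw [smul_zero, hAB, hAB] at this
    exact ⟨congrArg Prod.fst this, congrArg Prod.snd this⟩
  have hY : ∀ y, A' ((c : K) • y) = u' * A' y := by
    intro y
    have := h1 (0, y)
    rw [mul_zero, hAE, hAE] at this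
    exact congrArg Prod.fst this
  have hB0 : ∀ x, Bc x = 0 := by
    intro x
    have hne : (u : L) - algebraMap K L c' ≠ 0 := sub_ne_zero.2 (huK c').symm
    have e1 : Bc (((u : L) - algebraMap K L c') * (((u : L) - algebraMap K L c')⁻¹ * x)) = 0 := by
      rw [sub_mul, map_sub, (hL _).2, ← Algebra.smul_def, map_smul, sub_self]
    rwa [mul_inv_cancel_left₀ hne] at e1
  have hAi : Function.Injective A := by
    intro a b hab
    have e1 : D.ga g (a, 0) = D.ga g (b, 0) := by rw [hAB, hAB, hB0, hB0, hab]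
    exact congrArg Prod.fst ((D.ga g).injective e1)
  obtain ⟨τ, w, hτ⟩ := semi_of hfr huK A (fun x => (hL x).1) hAi
  have hA0 : ∀ y, A' y = 0 := by
    intro y
    have hne : (u' : L) - algebraMap K L c ≠ 0 := by
      intro h
      have e1 : (u' : L) = algebraMap K L c := sub_eq_zero.1 h
      have e2 := (hL 1).1
      rw [mul_one, e1, ← Algebra.smul_def, ← map_smul] at e2
      have e3 := hAi e2
      apply huK c
      rw [e3, Algebra.algebraMap_eq_smul_one]
    have e1 : ((u' : L) - algebraMap K L c) * A' y = 0 := by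
      rw [sub_mul, ← hY, map_smul, ← Algebra.smul_def, sub_self]
    exact (mul_eq_zero.1 e1).resolve_left hne
  have hEi : Function.Injective E := by
    intro a b hab
    have e1 : D.ga g (0, a) = D.ga g (0, b) := by rw [hAE, hAE, hA0, hA0, hab]
    exact congrArg Prod.snd ((D.ga g).injective e1)
  obtain ⟨c₀, hc₀⟩ := scal_of D.hd E hEi
  refine ⟨τ, w, c₀, fun v => ?_⟩
  rw [← D.ga_apply]
  have e1 : D.j v = ((D.j v).1, 0) + (0, (D.j v).2) := by
    rw [Prod.mk_add_mk, add_zero, zero_add]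
  conv_lhs => rw [e1, map_add, hAB, hAE, hB0, hA0, hτ, hc₀, Prod.mk_add_mk, add_zero, zero_add]

theorem Dat.T_le : D.T ≤ D.N := by
  rintro g ⟨w, c, h⟩
  exact ⟨1, w, c, h⟩

theorem Dat.B_le : D.B ≤ D.T := by
  rintro g ⟨w, c, h⟩
  exact ⟨_, c, h⟩

theorem Dat.ext_j {g h : G K hq n} (H : ∀ v, D.j ((g : (Fin n → K) ≃ₗ[K] (Fin n → K)) v) =
    D.j ((h : (Fin n → K) ≃ₗ[K] (Fin n → K)) v)) : g = h := by
  apply Subtype.ext
  ext1 v
  exact D.j.injective (H v)

theorem Dat.eq_of_sem {g h : G K hq n} {τ : L ≃ₐ[K] L} {w : Lˣ} {c : Kˣ} (h1 : D.Sem g τ w c)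
    (h2 : D.Sem h τ w c) : g = h := by
  apply D.ext_j
  intro v
  rw [h1, h2]

/-- the conjugate of a torus element -/
theorem Dat.sem_conj {x t : G K hq n} {τ : L ≃ₐ[K] L} {w u : Lˣ} {c c' : Kˣ} (h1 : D.Sem x τ w c)
    (h2 : D.Sem t 1 u c') : D.Sem (x * t * x⁻¹) 1 (Units.map (τ : L →* L) u) c' := by
  have h := D.sem_mul (D.sem_mul h1 h2) (D.sem_inv h1)
  have e1 : τ * 1 * τ⁻¹ = 1 := by group
  have e2 : c * c' * c⁻¹ = c' := by rw [mul_comm c, mul_inv_cancel_right]
  rw [e1, e2] at h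
  have e3 : w * Units.map (τ : L →* L) u * Units.map ((τ * 1 : L ≃ₐ[K] L) : L →* L)
      (Units.map ((τ⁻¹ : L ≃ₐ[K] L) : L →* L) w⁻¹) = Units.map (τ : L →* L) u := by
    have e4 : Units.map ((τ * 1 : L ≃ₐ[K] L) : L →* L) (Units.map ((τ⁻¹ : L ≃ₐ[K] L) : L →* L) w⁻¹) = w⁻¹ := by
      apply Units.ext
      change τ (τ⁻¹ ((w⁻¹ : Lˣ) : L)) = _
      exact τ.apply_symm_apply _
    rw [e4, mul_comm w, mul_inv_cancel_right]
  rw [e3] at h
  exact h

theorem Dat.comm {a b : G K hq n} (ha : a ∈ D.T) (hb : b ∈ D.T) : a * b = b * a := by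
  obtain ⟨w, c, h⟩ := ha
  obtain ⟨w', c', h'⟩ := hb
  have h1 := D.sem_mul h h'
  have h2 := D.sem_mul h' h
  refine D.eq_of_sem h1 ?_
  have e1 : w * Units.map ((1 : L ≃ₐ[K] L) : L →* L) w' = w' * Units.map ((1 : L ≃ₐ[K] L) : L →* L) w := by
    apply Units.ext
    change (w : L) * w' = w' * w
    rw [mul_comm]
  rw [e1, mul_comm c c']
  exact h2

theorem Dat.tor : Tor D.T D.N D.B where
  le := D.T_le
  comm a ha b hb := D.comm ha hb
  norm := by
    rintro x ⟨τ, w, c, h⟩ t ⟨u, c', h'⟩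
    exact ⟨_, _, D.sem_conj h h'⟩
  fus t ht htB g hg := D.fus ht htB hg

end Cfsg.Agent.H113.Cusp.Torus
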